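import Cfsg.Agent.Lib.PrimeElementOrders.Pair
import Cfsg.Agent.Lib.Involutions.Basic

/-!
Either some maximal 2-local is `(2^2).S₃`-like, or every Sylow 2-subgroup is the core of the only
maximal 2-local containing it.
-/

set_option autoImplicit false

open Cfsg

namespace CfsgLib.PrimeElementOrders

variable {G : Type*} [Group G] [Finite G]

theorem exists_normalizer_notMem {D U : Subgroup G} (hU : IsPGroup 2 U) (hlt : D < U) :
    ∃ u ∈ U, u ∈ Subgroup.normalizer (D : Set G) ∧ u ∉ D := by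
  have : Fact (Nat.Prime 2) := ⟨Nat.prime_two⟩
  haveI := hU.isNilpotent
  obtain ⟨u, hu, hu'⟩ := SetLike.exists_of_lt (Group.normalizerCondition_of_isNilpotent
    (D.subgroupOf U) (lt_top_iff_ne_top.2 fun e => hlt.not_ge (Subgroup.subgroupOf_eq_top.1 e)))
  refine ⟨u, u.2, ?_, fun h => hu' h⟩
  rw [Subgroup.mem_normalizer_iff]
  intro a
  constructor
  · intro ha
    exact (Subgroup.mem_normalizer_iff.1 hu ⟨a, hlt.le ha⟩).1 ha
  · intro ha
    have hua : a ∈ U := by
      have := U.mul_mem (U.mul_mem (U.inv_mem u.2) (hlt.le ha)) u.2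
      simpa [mul_assoc] using this
    exact (Subgroup.mem_normalizer_iff.1 hu ⟨a, hua⟩).2 ha

omit [Finite G] in
theorem mem_normalizer_of_map_conj {P : Subgroup G} {g : G}
    (h : P.map (MulAut.conj g).toMonoidHom = P) : g ∈ Subgroup.normalizer (P : Set G) := by
  rw [Subgroup.mem_normalizer_iff]
  intro a
  constructor
  · exact fun ha => h ▸ ⟨a, ha, rfl⟩
  · intro ha
    rw [← h] at ha
    obtain ⟨b, hb, e⟩ := ha
    have : b = a := (MulAut.conj g).injective e
    exact this ▸ hb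

omit [Finite G] in
theorem map_conj_pCoreOf (M : Subgroup G) (g : G) :
    pCoreOf 2 (M.map (MulAut.conj g).toMonoidHom) =
      (pCoreOf 2 M).map (MulAut.conj g).toMonoidHom := by
  have key : ∀ (M : Subgroup G) (g : G), (pCoreOf 2 M).map (MulAut.conj g).toMonoidHom ≤
      pCoreOf 2 (M.map (MulAut.conj g).toMonoidHom) := fun M g =>
    le_pCoreOf ((isPGroup_pCoreOf M).map _) (Subgroup.map_mono (pCoreOf_le M))
      ((Subgroup.map_mono (le_normalizer_pCoreOf M)).trans (Subgroup.le_normalizer_map _))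
  refine le_antisymm ?_ (key M g)
  intro a ha
  have h := key (M.map (MulAut.conj g).toMonoidHom) g⁻¹ ⟨a, ha, rfl⟩
  rw [Subgroup.map_map, show (MulAut.conj g⁻¹).toMonoidHom.comp (MulAut.conj g).toMonoidHom =
    MonoidHom.id G from MonoidHom.ext fun y => by simp [mul_assoc], Subgroup.map_id] at h
  exact ⟨_, h, by simp [mul_assoc]⟩

/-- A 2-subgroup of `M` containing `R` which is maximal among those. -/
theorem exists_max_two {M R : Subgroup G} (hR : IsPGroup 2 R) (hRM : R ≤ M) :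
    ∃ T : Subgroup G, R ≤ T ∧ T ≤ M ∧ IsPGroup 2 T ∧
      ∀ U : Subgroup G, IsPGroup 2 U → T ≤ U → U ≤ M → U = T := by
  obtain ⟨T, hle, hT⟩ :=
    (Set.toFinite {T : Subgroup G | IsPGroup 2 T ∧ T ≤ M}).exists_le_maximal
      (show R ∈ {T : Subgroup G | IsPGroup 2 T ∧ T ≤ M} from ⟨hR, hRM⟩)
  exact ⟨T, hle, hT.prop.2, hT.prop.1, fun U hU h1 h2 => le_antisymm (hT.le_of_ge ⟨hU, h2⟩ h1) h1⟩

/-- The centre of a subgroup, as a subgroup of `G`. -/
abbrev zc (P : Subgroup G) : Subgroup G := P ⊓ Subgroup.centralizer (P : Set G)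

omit [Finite G] in
theorem map_zc (P : Subgroup G) (g : G) :
    (zc P).map (MulAut.conj g).toMonoidHom = zc (P.map (MulAut.conj g).toMonoidHom) := by
  ext a
  constructor
  · rintro ⟨b, ⟨hb, hbc⟩, rfl⟩
    refine ⟨⟨b, hb, rfl⟩, ?_⟩
    rintro _ ⟨c, hc, rfl⟩
    rw [← map_mul, ← map_mul, hbc c hc]
  · rintro ⟨⟨b, hb, rfl⟩, hbc⟩
    refine ⟨b, ⟨hb, fun c hc => (MulAut.conj g).injective ?_⟩, rfl⟩
    rw [map_mul, map_mul]
    exact hbc _ ⟨c, hc, rfl⟩

theorem Local1.zc_ne_bot {M T : Subgroup G} {q k : ℕ} {x s : G} (h : Local1 M q x s T k) :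
    zc (pCoreOf 2 M) ≠ ⊥ := by
  refine fun e => omegaZ_ne_bot (isPGroup_pCoreOf M) h.maxLoc.core_ne_bot (le_bot_iff.1 ?_)
  rw [← e]
  exact fun a ha => ⟨ha.1, fun b hb => (ha.2.2 b hb).symm⟩

theorem Local1.normalizer_zc {M T : Subgroup G} {q k : ℕ} {x s : G} (h : Local1 M q x s T k) :
    Subgroup.normalizer (zc (pCoreOf 2 M) : Set G) = M :=
  h.maxLoc.normalizer_eq ((isPGroup_pCoreOf M).to_le inf_le_left) h.zc_ne_bot fun m hm => by
    have h1 := le_normalizer_pCoreOf M hm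
    have h2 := le_normalizer_centralizer (le_normalizer_pCoreOf M) hm
    rw [Subgroup.mem_normalizer_iff] at h1 h2 ⊢
    exact fun a => and_congr (h1 a) (h2 a)

/-- `T` is a Sylow subgroup unless the core has order four. -/
theorem Local1.sylow_or_four {M T : Subgroup G} {q k : ℕ} {x s : G} (h : Local1 M q x s T k) :
    (∀ R : Subgroup G, IsPGroup 2 R → T ≤ R → R = T) ∨ (q = 3 ∧ Nat.card (pCoreOf 2 M) = 4) := by
  by_contra hcon
  push Not at hcon
  obtain ⟨⟨R, hR, hTR, hne⟩, hfour⟩ := hcon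
  obtain ⟨g, hgR, hgN, hgT⟩ := exists_normalizer_notMem hR (lt_of_le_of_ne hTR (Ne.symm hne))
  have hgM : g ∉ M := fun hgM => hgT <| by
    have h1 : T ⊔ Subgroup.zpowers g ≤ R := sup_le hTR (Subgroup.zpowers_le.2 hgR)
    have h2 := h.T_max _ (hR.to_le h1) le_sup_left (sup_le h.T_le (Subgroup.zpowers_le.2 hgM))
    rw [← h2]
    exact le_sup_right (a := T) (Subgroup.mem_zpowers g)
  rcases h.omega_cases with hW | ⟨-, rfl⟩
  · exact hgM (h.normalizer_thompson hW ▸
      ThompsonJ.normalizer_le_normalizer_thompsonSubgroupOf 2 T hgN)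
  set D' := (pCoreOf 2 M).map (MulAut.conj g).toMonoidHom with hD'
  have hgT' : ∀ a ∈ T, g⁻¹ * a * g ∈ T := fun a ha =>
    (Subgroup.mem_normalizer_iff''.1 hgN a).1 ha
  have hD'T : D' ≤ T := by
    rintro _ ⟨a, ha, rfl⟩
    exact (Subgroup.mem_normalizer_iff.1 hgN a).1 (h.core_le ha)
  have hidx : ∀ a ∈ T, ∀ b ∈ T, a ∉ D' → b ∉ D' → a * b ∈ D' := by
    intro a ha b hb haD hbD
    refine ⟨g⁻¹ * a * g * (g⁻¹ * b * g), h.mul_mem_core (hgT' a ha) (hgT' b hb)
      (fun e => haD ⟨_, e, by simp [mul_assoc]⟩) (fun e => hbD ⟨_, e, by simp [mul_assoc]⟩),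
      by simp [mul_assoc]⟩
  rcases h.center_le hD'T (Subgroup.card_map_of_injective (MulAut.conj g).injective) hidx with h4 | hle
  · refine hfour rfl ?_
    have h1 := h.dvd_card_sub_one le_rfl (fun a => h.x_conj)
    obtain ⟨n, hn⟩ := IsPGroup.iff_card.1 (isPGroup_pCoreOf M)
    have h2 : Nat.card (pCoreOf 2 M) ≠ 1 := fun e =>
      h.maxLoc.core_ne_bot (Subgroup.eq_bot_of_card_eq _ e)
    have h3 := Nat.card_pos (α := pCoreOf 2 M)
    omega
  · have h1 : (zc (pCoreOf 2 M)).map (MulAut.conj g).toMonoidHom ≤ zc (pCoreOf 2 M) := by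
      rw [map_zc]
      intro a ha
      obtain ⟨e1, e2⟩ := hle a ha.1 (fun b hb => (ha.2 b hb).symm)
      exact ⟨e1, fun b hb => (e2 b hb).symm⟩
    have h2 := Subgroup.eq_of_le_of_card_ge h1
      (Subgroup.card_map_of_injective (MulAut.conj g).injective).ge
    exact hgM (h.normalizer_zc ▸ mem_normalizer_of_map_conj h2)

variable {M₁ M₂ T : Subgroup G} {q₁ q₂ k₁ k₂ : ℕ} {x₁ x₂ s₁ s₂ : G}

/-- Two maximal 2-locals with small and large `Ω₁Z` cannot share a Sylow subgroup. -/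
theorem Local1.not_mixed (h₁ : Local1 M₁ 3 x₁ s₁ T k₁) (hW₁ : Nat.card (omegaZ (pCoreOf 2 M₁)) ≤ 4)
    (h₂ : Local1 M₂ q₂ x₂ s₂ T k₂) (hW₂ : 4 < Nat.card (omegaZ (pCoreOf 2 M₂))) : False := by
  set D₁ := pCoreOf 2 M₁
  set D₂ := pCoreOf 2 M₂
  set W₁ := omegaZ D₁
  set W₂ := omegaZ D₂ with hW₂def
  -- `Ω₁(Z(T))` has order at most two
  have hZ : Nat.card (omegaZ T) ≤ 2 := by
    have hsub : omegaZ T ≤ W₁ := fun a ha =>
      ⟨h₁.cent fun b hb => (ha.2.2 b (h₁.core_le hb)).symm, ha.2.1, fun b hb => ha.2.2 b (h₁.core_le hb)⟩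
    have h1 := h₁.sq_le h₁.s_mem h₁.s_notMem (omegaZ_le D₁) (fun a => h₁.x_omegaZ) hsub
      (fun a ha => ha.2.2 s₁ h₁.s_mem)
    nlinarith
  -- conjugation by `s₂` on `W₂`
  have hsN : s₂ ∈ Subgroup.normalizer (D₂ : Set G) :=
    le_normalizer_pCoreOf M₂ (h₂.T_le h₂.s_mem)
  let c : ℕ → W₂ → W₂ := fun n a => ⟨s₂ ^ n * a * (s₂ ^ n)⁻¹,
    normalizer_le_omegaZ (Subgroup.pow_mem _ hsN n) a.2⟩
  let f : W₂ →* W₂ :=
    { toFun := fun a => c 1 a * a
      map_one' := Subtype.ext (by simp [c])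
      map_mul' := fun a b => Subtype.ext (by
        have hc := a.2.2.2 _ (omegaZ_le D₂ (c 1 b).2)
        simp only [c, pow_one, Subgroup.coe_mul] at hc ⊢
        calc s₂ * ((a : G) * b) * s₂⁻¹ * ((a : G) * b)
            = (s₂ * a * s₂⁻¹) * ((s₂ * b * s₂⁻¹) * a) * b := by group
          _ = (s₂ * a * s₂⁻¹) * (a * (s₂ * b * s₂⁻¹)) * b := by rw [hc]
          _ = _ := by group) }
  have hiter : ∀ (j : ℕ) (a : W₂), (f^[2 ^ j]) a = c (2 ^ j) a * a := by
    intro j
    induction j with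
    | zero => intro a; rfl
    | succ j ih =>
      intro a
      rw [pow_succ, Function.iterate_mul]
      show f^[2 ^ j] (f^[2 ^ j] a) = _
      rw [ih, ih]
      refine Subtype.ext ?_
      simp only [c, Subgroup.coe_mul]
      set u := s₂ ^ (2 ^ j)
      have hu : s₂ ^ (2 ^ j * 2) = u * u := by rw [pow_mul, pow_two]
      rw [hu]
      have h2 : u * (a : G) * u⁻¹ * (u * a * u⁻¹) = 1 := by
        calc u * (a : G) * u⁻¹ * (u * a * u⁻¹) = u * ((a : G) * a) * u⁻¹ := by group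
          _ = 1 := by rw [a.2.2.1]; group
      calc u * (u * (a : G) * u⁻¹ * a) * u⁻¹ * (u * a * u⁻¹ * a)
          = u * u * a * (u * u)⁻¹ * ((u * a * u⁻¹) * (u * a * u⁻¹)) * a := by group
        _ = u * u * a * (u * u)⁻¹ * a := by rw [h2, mul_one]
  have hker : Nat.card f.ker ≤ 2 := by
    refine le_trans ?_ hZ
    refine Nat.card_le_card_of_injective (fun a => ⟨((a : W₂) : G), ?_⟩) ?_
    · have ha : s₂ * (a : W₂) * s₂⁻¹ * ((a : W₂) : G) = 1 := by
        have := congrArg Subtype.val a.2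
        simpa [f, c] using this
      have ha' : s₂ * (a : W₂) * s₂⁻¹ = ((a : W₂) : G) := by
        rw [eq_inv_of_mul_eq_one_left ha, inv_eq_of_mul_eq_one_right (a : W₂).2.2.1]
      refine ⟨h₂.core_le (a : W₂).2.1, (a : W₂).2.2.1, fun b hb => ?_⟩
      obtain ⟨i, hi⟩ := h₂.gen b hb
      have hc1 : Commute ((a : W₂) : G) s₂ := (mul_inv_eq_iff_eq_mul.1 ha').symm
      have hc2 : Commute ((a : W₂) : G) ((s₂ ^ i)⁻¹ * b) := (a : W₂).2.2.2 _ hi
      simpa using ((hc1.pow_right i).mul_right hc2).eq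
    · intro a b e
      exact Subtype.ext (Subtype.ext (congrArg Subtype.val e :))
  have hkern : ∀ n : ℕ, Nat.card {a : W₂ // (f^[n]) a = 1} ≤ 2 ^ n := by
    intro n
    induction n with
    | zero =>
      have : Subsingleton {a : W₂ // (f^[0]) a = 1} := ⟨fun a b => Subtype.ext (a.2.trans b.2.symm)⟩
      simpa using Finite.card_le_one_iff_subsingleton.2 this
    | succ n ih =>
      classical
      let pick : W₂ → W₂ := Function.invFun f
      let g : {a : W₂ // (f^[n + 1]) a = 1} → f.ker × {a : W₂ // (f^[n]) a = 1} := fun a =>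
        ⟨⟨(a : W₂) * (pick (f a))⁻¹, by
          rw [MonoidHom.mem_ker, map_mul, map_inv, Function.invFun_eq (f := f) ⟨(a : W₂), rfl⟩, mul_inv_cancel]⟩,
          ⟨f a, by rw [← Function.iterate_succ_apply]; exact a.2⟩⟩
      have hg : Function.Injective g := by
        intro a b e
        simp only [g, Prod.mk.injEq, Subtype.mk.injEq] at e
        rw [e.2] at e
        exact Subtype.ext (mul_right_cancel e.1)
      have h1 := Nat.card_le_card_of_injective g hg
      rw [Nat.card_prod] at h1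
      calc _ ≤ Nat.card f.ker * Nat.card {a : W₂ // (f^[n]) a = 1} := h1
        _ ≤ 2 * 2 ^ n := Nat.mul_le_mul hker ih
        _ = 2 ^ (n + 1) := by ring
  have hall : ∀ a : W₂, (f^[2 ^ k₂]) a = 1 := by
    intro a
    rw [hiter]
    refine Subtype.ext ?_
    simp only [c, Subgroup.coe_mul, Subgroup.coe_one]
    rw [show s₂ ^ 2 ^ k₂ * (a : G) = a * s₂ ^ 2 ^ k₂ from (a.2.2.2 _ h₂.s_pow).symm]
    rw [mul_inv_cancel_right, a.2.2.1]
  have hWle : Nat.card W₂ ≤ 2 ^ 2 ^ k₂ := by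
    refine le_trans ?_ (hkern (2 ^ k₂))
    exact Nat.card_le_card_of_injective (fun a => ⟨a, hall a⟩) fun a b e => congrArg Subtype.val e
  obtain hk | hk := lt_or_ge k₂ 3
  · -- `k₂ = 1` or `k₂ = 2`
    have h1 := h₂.one_le
    interval_cases k₂
    · norm_num at hWle; omega
    · norm_num at hWle
      have h4 : 4 ∣ q₂ - 1 := by simpa using h₂.k_dvd
      have hd := h₂.dvd_card_sub_one (omegaZ_le D₂) (fun a => h₂.x_omegaZ)
      rw [← hW₂def] at hd
      obtain ⟨n, hn⟩ := IsPGroup.iff_card.1 ((isPGroup_pCoreOf M₂).to_le (omegaZ_le D₂))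
      rw [← hW₂def] at hn
      have hn4 : n ≤ 4 := by
        by_contra hh
        have := Nat.pow_le_pow_right two_pos (show 5 ≤ n by omega)
        omega
      have hq' := h₂.hq
      have hq2 := h₂.q_ne_two
      have hq5 := h₂.q_ne_five
      have hqle := Nat.le_of_dvd (by omega) hd
      rw [hn] at hW₂ hd hqle
      have h3 := hq'.two_le
      interval_cases n <;> first | omega | (norm_num at hd hqle; interval_cases q₂ <;> omega)
  · set u := s₂ * s₂ with hu
    have hu₁ : u ∈ D₁ := by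
      by_cases hs : s₂ ∈ D₁
      · exact mul_mem hs hs
      · exact h₁.mul_mem_core h₂.s_mem h₂.s_mem hs hs
    have hu₂ : u * u ∉ D₂ := by
      intro hmem
      have h1 := h₂.s_dvd 4 (by rw [show s₂ ^ 4 = u * u by rw [hu]; simp [pow_succ, mul_assoc]]; exact hmem)
      have h2 := Nat.le_of_dvd (by norm_num) h1
      have h3 := Nat.pow_le_pow_right two_pos hk
      omega
    have hA : Nat.card W₂ ≤ 2 * Nat.card ↥(W₂ ⊓ D₁) := card_le_two_mul fun a ha b hb =>
      h₁.mul_mem_core (h₂.core_le ha.1) (h₂.core_le hb.1)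
    have hc : ∀ a ∈ W₂ ⊓ D₁, Commute a (u * u) := by
      rintro a ⟨ha, haD⟩
      set w := u * a * u⁻¹ * a⁻¹ with hw
      have hw' : ∀ d ∈ D₁, w * d = d * w := fun d hd => h₁.commutator_central haD hu₁ hd
      have haa : a * a = 1 := ha.2.1
      have hww : w * w = 1 := by
        have e : u * (a * a) * u⁻¹ = w * a * (w * a) := by rw [hw]; group
        rw [haa, mul_one, mul_inv_cancel] at e
        rw [show w * a * (w * a) = w * (a * w) * a by group, ← hw' a haD] at e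
        rw [show w * (w * a) * a = (w * w) * (a * a) by group, haa, mul_one] at e
        exact e.symm
      have e2 : u * u * a * (u * u)⁻¹ = a := by
        calc u * u * a * (u * u)⁻¹ = (u * w) * u⁻¹ * (u * a * u⁻¹) := by rw [hw]; group
          _ = (w * u) * u⁻¹ * (w * a) := by rw [← hw' u hu₁, hw]; group
          _ = (w * w) * a := by group
          _ = a := by rw [hww, one_mul]
      exact (mul_inv_eq_iff_eq_mul.1 e2).symm
    have h3 := h₂.sq_le (h₁.core_le (mul_mem hu₁ hu₁)) hu₂ (omegaZ_le D₂) (fun a => h₂.x_omegaZ)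
      (inf_le_left : W₂ ⊓ D₁ ≤ W₂) hc
    nlinarith

/-- A Sylow subgroup lies in only one maximal 2-local with a core of order other than four. -/
theorem Local1.unique (h₁ : Local1 M₁ q₁ x₁ s₁ T k₁) (h₂ : Local1 M₂ q₂ x₂ s₂ T k₂)
    (h4 : ¬ (q₁ = 3 ∧ Nat.card (pCoreOf 2 M₁) = 4)) (h4' : ¬ (q₂ = 3 ∧ Nat.card (pCoreOf 2 M₂) = 4)) :
    M₁ = M₂ := by
  have four : ∀ {M : Subgroup G} {x s : G} {k : ℕ}, Local1 M 3 x s T k → Nat.card (pCoreOf 2 M) ≤ 4 →
      Nat.card (pCoreOf 2 M) = 4 := by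
    intro M x s k h hle
    have h1 := h.dvd_card_sub_one le_rfl (fun a => h.x_conj)
    have h2 : Nat.card (pCoreOf 2 M) ≠ 1 := fun e =>
      h.maxLoc.core_ne_bot (Subgroup.eq_bot_of_card_eq _ e)
    have h3 := Nat.card_pos (α := pCoreOf 2 M)
    omega
  rcases h₁.omega_cases with hW₁ | ⟨hW₁, rfl⟩ <;> rcases h₂.omega_cases with hW₂ | ⟨hW₂, rfl⟩
  · rw [← h₁.normalizer_thompson hW₁, h₂.normalizer_thompson hW₂]
  · exact (h₂.not_mixed hW₂ h₁ hW₁).elim
  · exact (h₁.not_mixed hW₁ h₂ hW₂).elim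
  · have two : ∀ {M : Subgroup G} {x s : G} {k : ℕ}, Local1 M 3 x s T k →
        Nat.card T = 2 * Nat.card (pCoreOf 2 M) := by
      intro M x s k h
      refine le_antisymm ?_ (two_mul_card_le (lt_of_le_of_ne h.core_le fun e => h.s_notMem (e ▸ h.s_mem)))
      refine (card_le_two_mul (H := pCoreOf 2 M) (K := T) fun a ha b hb => h.mul_mem_core ha hb).trans ?_
      rw [inf_eq_right.2 h.core_le]
    have hc : Nat.card (pCoreOf 2 M₂) = Nat.card (pCoreOf 2 M₁) := by
      have := two h₁; have := two h₂; omega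
    rcases h₁.center_le h₂.core_le hc (fun a ha b hb => h₂.mul_mem_core ha hb) with h | h21
    · exact absurd ⟨rfl, four h₁ h⟩ h4
    rcases h₂.center_le h₁.core_le hc.symm (fun a ha b hb => h₁.mul_mem_core ha hb) with h | h12
    · exact absurd ⟨rfl, four h₂ h⟩ h4'
    have hz : zc (pCoreOf 2 M₁) = zc (pCoreOf 2 M₂) := by
      apply le_antisymm
      · intro a ha
        obtain ⟨e1, e2⟩ := h12 a ha.1 (fun b hb => (ha.2 b hb).symm)
        exact ⟨e1, fun b hb => (e2 b hb).symm⟩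
      · intro a ha
        obtain ⟨e1, e2⟩ := h21 a ha.1 (fun b hb => (ha.2 b hb).symm)
        exact ⟨e1, fun b hb => (e2 b hb).symm⟩
    rw [← h₁.normalizer_zc, hz, h₂.normalizer_zc]

/-- Some maximal 2-local has a core of order four, or none has a composite quotient. -/
theorem Ctx.dichotomy (hC : Ctx G) :
    (∃ M x s T k, Local1 (G := G) M 3 x s T k ∧ Nat.card (pCoreOf 2 M) = 4) ∨
      ∀ M q x s T k, ¬ Local1 (G := G) M q x s T k := by
  classical
  have : Fact (Nat.Prime 2) := ⟨Nat.prime_two⟩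
  by_contra hcon
  push Not at hcon
  obtain ⟨hno4, M₀, q₀, x₀, s₀, T₀, k₀, h₀⟩ := hcon
  have h4 : ∀ {M : Subgroup G} {q : ℕ} {x s : G} {T : Subgroup G} {k : ℕ}, Local1 M q x s T k →
      ¬ (q = 3 ∧ Nat.card (pCoreOf 2 M) = 4) := by
    rintro M q x s T k h ⟨rfl, h'⟩
    exact hno4 M x s T k h h'
  have sylT : ∀ {M : Subgroup G} {q : ℕ} {x s : G} {T : Subgroup G} {k : ℕ}, Local1 M q x s T k →
      ∃ S : Sylow 2 G, (S : Subgroup G) = T := by
    intro M q x s T k h
    obtain ⟨S, hS⟩ := h.T_two.exists_le_sylow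
    rcases h.sylow_or_four with h1 | h1
    · exact ⟨S, h1 _ S.2 hS⟩
    · exact absurd h1 (h4 h)
  obtain ⟨S₀, hS₀⟩ := sylT h₀
  -- every Sylow subgroup is the `T` of some such local
  have hconj : ∀ g : G, ∀ S : Sylow 2 G, (S : Subgroup G) ≤ M₀.map (MulAut.conj g).toMonoidHom →
      ∃ q x s k, Local1 (M₀.map (MulAut.conj g).toMonoidHom) q x s (S : Subgroup G) k := by
    intro g S hle
    rcases hC.structure_maxLoc (h₀.maxLoc.map_conj g) hle S.2
      (fun R hR h1 _ => S.3 hR h1) with ⟨hST, -, -⟩ | h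
    · exfalso
      have h2 : Nat.card (pCoreOf 2 M₀) = Nat.card T₀ := by
        have e1 : Nat.card (S : Subgroup G) = Nat.card T₀ := by
          rw [← hS₀, S.card_eq_multiplicity, S₀.card_eq_multiplicity]
        rw [← e1, hST, map_conj_pCoreOf]
        exact (Subgroup.card_map_of_injective (MulAut.conj g).injective).symm
      exact h₀.s_notMem ((Subgroup.eq_of_le_of_card_ge h₀.core_le h2.ge) ▸ h₀.s_mem)
    · exact h
  have hex : ∀ S : Sylow 2 G, ∃ M q x s k, Local1 M q x s (S : Subgroup G) k := by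
    intro S
    obtain ⟨g, hg⟩ := MulAction.exists_smul_eq G S₀ S
    refine ⟨_, hconj g S ?_⟩
    rw [← hg, Sylow.coe_subgroup_smul, hS₀]
    rintro a ⟨b, hb, rfl⟩
    exact ⟨b, h₀.T_le hb, rfl⟩
  -- all maximal 2-locals are of this kind
  have hall : ∀ L T : Subgroup G, IsMaxLoc L → T ≤ L → IsPGroup 2 T →
      (∀ R : Subgroup G, IsPGroup 2 R → T ≤ R → R ≤ L → R = T) →
      ∃ q x s k, Local1 L q x s T k := by
    intro L T hL hTL hT hmax
    rcases hC.structure_maxLoc hL hTL hT hmax with ⟨hTD, -, -⟩ | h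
    swap
    · exact h
    exfalso
    obtain ⟨S, hTS⟩ := hT.exists_le_sylow
    have hTSeq : (S : Subgroup G) = T := by
      by_contra hne
      obtain ⟨g, hgS, hgN, hgT⟩ := exists_normalizer_notMem S.2 (lt_of_le_of_ne hTS (Ne.symm hne))
      rw [hTD, hL.normalizer_core] at hgN
      have h2 := hmax _ (S.2.to_le (sup_le hTS (Subgroup.zpowers_le.2 hgS))) le_sup_left
        (sup_le hTL (Subgroup.zpowers_le.2 hgN))
      exact hgT (h2 ▸ le_sup_right (a := T) (Subgroup.mem_zpowers g))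
    obtain ⟨M, q, x, s, k, h⟩ := hex S
    have hLM : L ≤ M := by
      intro g hg
      rw [← h.maxLoc.normalizer_core]
      refine mem_normalizer_of_map_conj ?_
      rw [← map_conj_pCoreOf]
      congr 1
      have hgS : ((S : Subgroup G)).map (MulAut.conj g).toMonoidHom = (S : Subgroup G) := by
        rw [hTSeq, hTD]
        refine Subgroup.eq_of_le_of_card_ge ?_ (Subgroup.card_map_of_injective (MulAut.conj g).injective).ge
        rintro _ ⟨b, hb, rfl⟩
        exact (Subgroup.mem_normalizer_iff.1 (le_normalizer_pCoreOf L hg) b).1 hb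
      have hle : (S : Subgroup G) ≤ M.map (MulAut.conj g).toMonoidHom := by
        conv_lhs => rw [← hgS]
        exact Subgroup.map_mono h.T_le
      rcases hC.structure_maxLoc (h.maxLoc.map_conj g) hle S.2 (fun R hR h1 _ => S.3 hR h1) with
        ⟨hST, -, -⟩ | ⟨q', x', s', k', h'⟩
      · exfalso
        refine h.s_notMem ?_
        have h2 := congrArg (fun X : Subgroup G => Nat.card X) hST
        simp only [map_conj_pCoreOf] at h2
        have h3 := h2.trans (Subgroup.card_map_of_injective (MulAut.conj g).injective)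
        exact (Subgroup.eq_of_le_of_card_ge h.core_le h3.le) ▸ h.s_mem
      · exact h'.unique h (h4 h') (h4 h)
    have hLeq : L = M := le_antisymm hLM (hL.le_of_ge h.maxLoc.prop hLM)
    subst hLeq
    exact h.s_notMem (hTD ▸ hTSeq ▸ h.s_mem)
  have hsyl : ∀ L R : Subgroup G, IsMaxLoc L → R ≤ L → IsPGroup 2 R →
      ∃ S : Sylow 2 G, R ≤ (S : Subgroup G) ∧ (S : Subgroup G) ≤ L := by
    intro L R hL hRL hR
    obtain ⟨T, hRT, hTL, hT, hmax⟩ := exists_max_two hR hRL
    obtain ⟨q, x, s, k, h⟩ := hall L T hL hTL hT hmax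
    obtain ⟨S, hS⟩ := sylT h
    exact ⟨S, hS.symm ▸ hRT, hS.symm ▸ hTL⟩
  have hunique : ∀ (L₁ L₂ : Subgroup G) (S : Sylow 2 G), IsMaxLoc L₁ → IsMaxLoc L₂ →
      (S : Subgroup G) ≤ L₁ → (S : Subgroup G) ≤ L₂ → L₁ = L₂ := by
    intro L₁ L₂ S h1 h2 hS1 hS2
    obtain ⟨q, x, s, k, e1⟩ := hall L₁ S h1 hS1 S.2 (fun R hR h' _ => S.3 hR h')
    obtain ⟨q', x', s', k', e2⟩ := hall L₂ S h2 hS2 S.2 (fun R hR h' _ => S.3 hR h')
    exact e1.unique e2 (h4 e1) (h4 e2)
  -- distinct maximal locals meet in a subgroup of odd order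
  have hodd : ∀ n : ℕ, ∀ L₁ L₂ R : Subgroup G, IsMaxLoc L₁ → IsMaxLoc L₂ → L₁ ≠ L₂ → R ≤ L₁ →
      R ≤ L₂ → IsPGroup 2 R → R ≠ ⊥ → Nat.card G ≤ n + Nat.card R → False := by
    intro n
    induction n with
    | zero =>
      intro L₁ L₂ R hL₁ _ _ hR1 _ _ _ hn
      have h1 : R = ⊤ := Subgroup.eq_top_of_card_eq R
        (le_antisymm (Subgroup.card_le_card_group R) (by omega))
      exact hC.ne_top_of_isLoc hL₁.prop (top_le_iff.1 (h1 ▸ hR1))
    | succ n ih =>
      intro L₁ L₂ R hL₁ hL₂ hne hR1 hR2 hR hRne hn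
      obtain ⟨L₃, hL₃, hN⟩ := exists_maxLoc_normalizer hR hRne
      have grow : ∀ (L : Subgroup G), IsMaxLoc L → R ≤ L → L ≠ L₃ → (∀ S : Sylow 2 G, (S : Subgroup G) = R → False) → False := by
        intro L hL hRL hne' hnotS
        obtain ⟨S, hRS, hSL⟩ := hsyl L R hL hRL hR
        obtain ⟨g, hgS, hgN, hgR⟩ := exists_normalizer_notMem S.2
          (lt_of_le_of_ne hRS fun e => hnotS S e.symm)
        have hlt : R < R ⊔ Subgroup.zpowers g :=
          lt_of_le_of_ne le_sup_left fun e => hgR (e ▸ le_sup_right (a := R) (Subgroup.mem_zpowers g))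
        refine ih L L₃ (R ⊔ Subgroup.zpowers g) hL hL₃ hne'
          (sup_le hRL (Subgroup.zpowers_le.2 (hSL hgS)))
          (sup_le (Subgroup.le_normalizer.trans hN) (Subgroup.zpowers_le.2 (hN hgN)))
          (S.2.to_le (sup_le hRS (Subgroup.zpowers_le.2 hgS))) ?_ ?_
        · exact fun e => hRne (le_bot_iff.1 (e ▸ le_sup_left))
        · have := two_mul_card_le hlt
          have := Nat.card_pos (α := R)
          omega
      have hnotS : ∀ S : Sylow 2 G, (S : Subgroup G) = R → False := fun S e =>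
        hne (hunique L₁ L₂ S hL₁ hL₂ (e ▸ hR1) (e ▸ hR2))
      by_cases e1 : L₁ = L₃
      · exact grow L₂ hL₂ hR2 (fun e2 => hne (e1.trans e2.symm)) hnotS
      · exact grow L₁ hL₁ hR1 e1 hnotS
  -- two involutions of `M₀` are conjugate in `M₀`
  have hse : ∀ g t : G, t ∈ M₀ → orderOf t = 2 → g * t * g⁻¹ ∈ M₀ → g ∈ M₀ := by
    intro g t ht ht2 hg
    by_contra hgM
    have hne : M₀.map (MulAut.conj g⁻¹).toMonoidHom ≠ M₀ := by
      intro e
      apply hgM
      have h1 : g⁻¹ ∈ Subgroup.normalizer (pCoreOf 2 M₀ : Set G) :=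
        mem_normalizer_of_map_conj (by rw [← map_conj_pCoreOf, e])
      rw [h₀.maxLoc.normalizer_core] at h1
      simpa using M₀.inv_mem h1
    refine hodd (Nat.card G) _ _ (Subgroup.zpowers t) (h₀.maxLoc.map_conj g⁻¹) h₀.maxLoc hne
      (Subgroup.zpowers_le.2 ⟨g * t * g⁻¹, hg, by simp [mul_assoc]⟩) (Subgroup.zpowers_le.2 ht)
      (IsPGroup.of_card (n := 1) (by rw [pow_one, Nat.card_zpowers, ht2])) ?_ (Nat.le_add_right _ _)
    rw [Ne, Subgroup.zpowers_eq_bot]
    exact fun e => by rw [e, orderOf_one] at ht2; omega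
  obtain ⟨v, hvM, hvD, hv2⟩ := h₀.invol
  obtain ⟨⟨u, huW⟩, hune⟩ := Subgroup.ne_bot_iff_exists_ne_one.1
    (omegaZ_ne_bot (isPGroup_pCoreOf M₀) h₀.maxLoc.core_ne_bot)
  have hu2 : orderOf u = 2 :=
    orderOf_eq_prime (by rw [pow_two]; exact huW.2.1) (fun e => hune (Subtype.ext e))
  have huM : u ∈ M₀ := pCoreOf_le M₀ huW.1
  have hM₀ := hC.ne_top_of_isLoc h₀.maxLoc.prop
  obtain ⟨t, ht2, htM⟩ : ∃ t : G, orderOf t = 2 ∧ t ∉ M₀ := by
    by_contra! hall2
    have := hC.simple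
    have h1 : Subgroup.normalClosure {u} ≤ M₀ := by
      rw [Subgroup.normalClosure, Subgroup.closure_le]
      intro y hy
      obtain ⟨_, rfl, hc⟩ := Group.mem_conjugatesOfSet_iff.1 hy
      obtain ⟨c, rfl⟩ := isConj_iff.1 hc
      exact hall2 _ (by rw [Involutions.orderOf_conj, hu2])
    rcases (Subgroup.normalClosure_normal : (Subgroup.normalClosure {u}).Normal).eq_bot_or_eq_top with e | e
    · refine hune (Subtype.ext ?_)
      have := Subgroup.subset_normalClosure (Set.mem_singleton u)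
      rw [e] at this
      exact this
    · exact hM₀ (top_le_iff.1 (e ▸ h1))
  have hconjt : ∀ w ∈ M₀, orderOf w = 2 → IsConj w t := by
    intro w hw hw2
    by_contra hnc
    obtain ⟨z, hz2, hzw, hzt, -⟩ := Involutions.exists_commuting_involution hw2 ht2 hnc
    have hzM : z ∈ M₀ := hse z w hw hw2 (by rw [hzw, mul_inv_cancel_right]; exact hw)
    exact htM (hse t z hzM hz2 (by rw [← hzt, mul_inv_cancel_right]; exact hzM))
  obtain ⟨g, hg⟩ := isConj_iff.1 ((hconjt u huM hu2).trans (hconjt v hvM hv2).symm)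
  refine hvD ?_
  rw [← hg]
  exact (Subgroup.mem_normalizer_iff.1 (le_normalizer_pCoreOf M₀ (hse g u huM hu2 (hg ▸ hvM))) u).1 huW.1

end CfsgLib.PrimeElementOrders
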