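import Cfsg.Agent.Lib.PrimeElementOrders.Structure
import Cfsg.Agent.Lib.SchurExt.TwoEngel
import Cfsg.Agent.Lib.ThompsonJ.Basic

/-!
Consequences of fixed-point-free action: quadratic bounds, the Thompson subgroup, pairs of cores.
-/

set_option autoImplicit false

open Cfsg

namespace CfsgLib.PrimeElementOrders

variable {G : Type*} [Group G] [Finite G]

theorem card_le_two_mul {H K : Subgroup G} (h : ∀ a ∈ K, ∀ b ∈ K, a ∉ H → b ∉ H → a * b ∈ H) :
    Nat.card K ≤ 2 * Nat.card ↥(K ⊓ H) := by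
  classical
  by_cases hKH : K ≤ H
  · rw [inf_eq_left.2 hKH]; omega
  obtain ⟨c, hc, hcH⟩ := SetLike.not_le_iff_exists.1 hKH
  let f : K → Bool × ↥(K ⊓ H) := fun a =>
    if ha : (a : G) ∈ H then (true, ⟨a, a.2, ha⟩)
    else (false, ⟨(a : G) * c, K.mul_mem a.2 hc, h _ a.2 _ hc ha hcH⟩)
  have hf : Function.Injective f := by
    intro a b hab
    simp only [f] at hab
    split_ifs at hab with ha hb hb <;> simp only [Prod.mk.injEq, Subtype.mk.injEq, Bool.true_eq_false,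
      Bool.false_eq_true, false_and, true_and, mul_left_inj] at hab
    · have e := congrArg Subtype.val hab
      exact Subtype.ext e
    · have e := congrArg Subtype.val hab
      exact Subtype.ext (mul_right_cancel e)
  have := Nat.card_le_card_of_injective f hf
  rwa [Nat.card_prod, Nat.card_eq_fintype_card (α := Bool), Fintype.card_bool] at this

theorem two_mul_card_le {H K : Subgroup G} (h : H < K) : 2 * Nat.card H ≤ Nat.card K := by
  obtain ⟨c, hc⟩ := Subgroup.card_dvd_of_le h.le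
  rcases c with _ | _ | c
  · simp [Nat.card_pos.ne'] at hc
  · exact absurd (Subgroup.eq_of_le_of_card_ge h.le (by omega)) h.ne
  · rw [hc]; nlinarith

variable {M T : Subgroup G} {q k : ℕ} {x s : G}

local notation "D" => pCoreOf 2 M

theorem Local1.x_conj (h : Local1 M q x s T k) {a : G} (ha : a ∈ D) : x * a * x⁻¹ ∈ D :=
  (Subgroup.mem_normalizer_iff.1 (le_normalizer_pCoreOf M h.x_mem) a).1 ha

/-- A subgroup of an invariant `X ≤ D` centralised by some `τ ∈ T ∖ D` has order at most `√|X|`. -/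
theorem Local1.sq_le (h : Local1 M q x s T k) {τ : G} (hτ : τ ∈ T) (hτD : τ ∉ D) {X A : Subgroup G}
    (hX : X ≤ D) (hxX : ∀ a ∈ X, x * a * x⁻¹ ∈ X) (hA : A ≤ X) (hc : ∀ a ∈ A, Commute a τ) :
    Nat.card A ^ 2 ≤ Nat.card X := by
  let f : A × A → X := fun p =>
    ⟨(p.1 : G) * (x * (p.2 : G) * x⁻¹), X.mul_mem (hA p.1.2) (hxX _ (hA p.2.2))⟩
  have hf : Function.Injective f := by
    rintro ⟨a, b⟩ ⟨a', b'⟩ e
    have e' : (a : G) * (x * (b : G) * x⁻¹) = (a' : G) * (x * (b' : G) * x⁻¹) := congrArg Subtype.val e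
    have e2 : (a' : G)⁻¹ * a = x * ((b' : G) * (b : G)⁻¹) * x⁻¹ := by
      calc (a' : G)⁻¹ * a = (a' : G)⁻¹ * ((a : G) * (x * (b : G) * x⁻¹)) * (x * (b : G) * x⁻¹)⁻¹ := by
            group
        _ = _ := by rw [e']; group
    have h1 : (a' : G)⁻¹ * a = 1 := by
      refine h.key τ hτ hτD _ (hX (hA (A.mul_mem (A.inv_mem a'.2) a.2)))
        (hc _ (A.mul_mem (A.inv_mem a'.2) a.2)) ?_
      rw [e2]
      have h2 := (hc _ (A.mul_mem b'.2 (A.inv_mem b.2))).map (MulAut.conj x).toMonoidHom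
      simpa only [MulEquiv.coe_toMonoidHom, MulAut.conj_apply, mul_assoc] using h2
    have h2 : (b' : G) * (b : G)⁻¹ = 1 := by rw [h1] at e2; exact conj_eq_one_iff.1 e2.symm
    rw [inv_mul_eq_one] at h1
    rw [mul_inv_eq_one] at h2
    exact Prod.ext (Subtype.ext h1.symm) (Subtype.ext h2.symm)
  have := Nat.card_le_card_of_injective f hf
  rwa [Nat.card_prod, ← pow_two] at this

/-- The involutions of the centre of `P`, together with one. -/
def omegaZ (P : Subgroup G) : Subgroup G where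
  carrier := {a | a ∈ P ∧ a * a = 1 ∧ ∀ b ∈ P, a * b = b * a}
  mul_mem' := by
    rintro a b ⟨ha, ha2, hac⟩ ⟨hb, hb2, hbc⟩
    refine ⟨P.mul_mem ha hb, ?_, fun c hc => ?_⟩
    · calc a * b * (a * b) = a * (b * a) * b := by group
        _ = a * (a * b) * b := by rw [hbc a ha]
        _ = (a * a) * (b * b) := by group
        _ = 1 := by rw [ha2, hb2, mul_one]
    · rw [mul_assoc, hbc c hc, ← mul_assoc, hac c hc, mul_assoc]
  one_mem' := ⟨P.one_mem, one_mul 1, fun b _ => by rw [one_mul, mul_one]⟩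
  inv_mem' := by
    rintro a ⟨ha, ha2, hac⟩
    have : a⁻¹ = a := inv_eq_of_mul_eq_one_right ha2
    rw [this]
    exact ⟨ha, ha2, hac⟩

theorem mem_omegaZ {P : Subgroup G} {a : G} :
    a ∈ omegaZ P ↔ a ∈ P ∧ a * a = 1 ∧ ∀ b ∈ P, a * b = b * a := Iff.rfl

theorem omegaZ_le (P : Subgroup G) : omegaZ P ≤ P := fun _ h => h.1

theorem omegaZ_ne_bot {P : Subgroup G} (hP : IsPGroup 2 P) (h1 : P ≠ ⊥) : omegaZ P ≠ ⊥ := by
  have : Nontrivial P := (Subgroup.nontrivial_iff_ne_bot P).2 h1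
  have := hP.center_nontrivial
  obtain ⟨n, hn, hc⟩ := (hP.to_subgroup (Subgroup.center P)).nontrivial_iff_card.1 this
  obtain ⟨z, hz⟩ := exists_prime_orderOf_dvd_card' (G := Subgroup.center P) 2
    (hc ▸ dvd_pow_self 2 hn.ne')
  refine (Subgroup.ne_bot_iff_exists_ne_one).2 ⟨⟨((z : P) : G), (z : P).2, ?_, fun b hb => ?_⟩, ?_⟩
  · have := pow_orderOf_eq_one z
    rw [hz, pow_two] at this
    exact congrArg (fun w : Subgroup.center P => ((w : P) : G)) this
  · exact (congrArg Subtype.val (Subgroup.mem_center_iff.1 z.2 ⟨b, hb⟩)).symm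
  · intro e
    have h2 : ((z : P) : G) = 1 := congrArg Subtype.val e
    rw [OneMemClass.coe_eq_one, OneMemClass.coe_eq_one] at h2
    rw [h2, orderOf_one] at hz
    omega

omit [Finite G] in
theorem normalizer_le_omegaZ {P : Subgroup G} {g a : G}
    (hg : g ∈ Subgroup.normalizer (P : Set G)) (ha : a ∈ omegaZ P) : g * a * g⁻¹ ∈ omegaZ P := by
  obtain ⟨ha1, ha2, hac⟩ := ha
  refine ⟨(Subgroup.mem_normalizer_iff.1 hg a).1 ha1, ?_, fun b hb => ?_⟩
  · calc g * a * g⁻¹ * (g * a * g⁻¹) = g * (a * a) * g⁻¹ := by group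
      _ = 1 := by rw [ha2]; group
  · have h1 := hac _ ((Subgroup.mem_normalizer_iff''.1 hg b).1 hb)
    calc g * a * g⁻¹ * b = g * (a * (g⁻¹ * b * g)) * g⁻¹ := by group
      _ = g * ((g⁻¹ * b * g) * a) * g⁻¹ := by rw [h1]
      _ = b * (g * a * g⁻¹) := by group

theorem Local1.x_omegaZ (h : Local1 M q x s T k) {a : G} (ha : a ∈ omegaZ D) :
    x * a * x⁻¹ ∈ omegaZ D :=
  normalizer_le_omegaZ (le_normalizer_pCoreOf M h.x_mem) ha

/-- An invariant subgroup of the core has order `≡ 1` modulo `q`. -/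
theorem Local1.dvd_card_sub_one (h : Local1 M q x s T k) {X : Subgroup G} (hX : X ≤ D)
    (hxX : ∀ a ∈ X, x * a * x⁻¹ ∈ X) : q ∣ Nat.card X - 1 := by
  have : Fact q.Prime := ⟨h.hq⟩
  have hxN : Subgroup.zpowers x ≤ Subgroup.normalizer (X : Set G) := by
    rw [Subgroup.zpowers_le, Subgroup.mem_normalizer_iff]
    have hsucc : ∀ n : ℕ, ∀ a ∈ X, x ^ n * a * (x ^ n)⁻¹ ∈ X := by
      intro n
      induction n with
      | zero => simp
      | succ n ih => intro a ha; simpa [pow_succ', mul_assoc] using hxX _ (ih a ha)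
    refine fun a => ⟨hxX a, fun ha => ?_⟩
    have := hsucc (q - 1) _ ha
    have e : x ^ (q - 1) * x = 1 := by
      rw [← pow_succ, Nat.sub_add_cancel h.hq.pos, ← h.orderOf_x, pow_orderOf_eq_one]
    rwa [show x ^ (q - 1) * (x * a * x⁻¹) * (x ^ (q - 1))⁻¹ = (x ^ (q - 1) * x) * a * (x ^ (q - 1) * x)⁻¹
      by group, e, inv_one, one_mul, mul_one] at this
  let φ : Subgroup.zpowers x →* MulAut X :=
    (Subgroup.normalizerMonoidHom X).comp (Subgroup.inclusion hxN)
  letI : MulAction (Subgroup.zpowers x) X := MulAction.compHom X φ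
  have hp : IsPGroup q (Subgroup.zpowers x) :=
    IsPGroup.of_card (n := 1) (by rw [pow_one, Nat.card_zpowers, h.orderOf_x])
  have hfix : MulAction.fixedPoints (Subgroup.zpowers x) X = {1} := by
    ext v
    constructor
    · intro hv
      have h2 : x * (v : G) * x⁻¹ = v := congrArg Subtype.val (hv ⟨x, Subgroup.mem_zpowers x⟩)
      exact Subtype.ext (h.fpf v (hX v.2) (mul_inv_eq_iff_eq_mul.1 h2).symm)
    · rintro rfl z
      exact map_one (φ z)
  have h1 := hp.card_modEq_card_fixedPoints X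
  rw [hfix, Nat.card_coe_set_eq, Set.ncard_singleton] at h1
  exact (Nat.modEq_iff_dvd' Nat.card_pos).1 h1.symm

/-- The dichotomy on `|Ω₁Z(D)|`. -/
theorem Local1.omega_cases (h : Local1 M q x s T k) :
    4 < Nat.card (omegaZ D) ∨ (Nat.card (omegaZ D) ≤ 4 ∧ q = 3) := by
  rcases le_or_gt (Nat.card (omegaZ D)) 4 with hle | hlt
  · refine Or.inr ⟨hle, ?_⟩
    have h1 := h.dvd_card_sub_one (omegaZ_le D) (fun a => h.x_omegaZ)
    have h2 := Nat.card_pos (α := omegaZ D)
    have h3 : Nat.card (omegaZ D) ≠ 1 := fun e =>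
      omegaZ_ne_bot (isPGroup_pCoreOf M) h.maxLoc.core_ne_bot (Subgroup.eq_bot_of_card_eq _ e)
    have h4 := h.hq.two_le
    have h5 := Nat.le_of_dvd (by omega) h1
    have h6 := h.q_ne_two
    omega
  · exact Or.inl hlt

theorem Local1.k_eq_one (h : Local1 M 3 x s T k) : k = 1 := by
  have h1 := Nat.le_of_dvd (by norm_num) h.k_dvd
  have h2 := h.one_le
  rcases k with _ | _ | k
  · omega
  · rfl
  · have := Nat.pow_le_pow_right two_pos (show 2 ≤ k + 1 + 1 by omega)
    omega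

theorem Local1.s_notMem (h : Local1 M q x s T k) :
    s ∉ D := fun hs => by
  have h1 := Nat.le_of_dvd one_pos (h.s_dvd 1 (by simpa using hs))
  have := Nat.one_lt_two_pow (n := k) (by have := h.one_le; omega)
  omega

/-- For `q = 3` the core has index two in `T`. -/
theorem Local1.mul_mem_core (h : Local1 M 3 x s T k) {a b : G} (ha : a ∈ T) (hb : b ∈ T)
    (ha' : a ∉ D) (hb' : b ∉ D) : a * b ∈ D := by
  have hs2 : s * s ∈ D := by simpa [h.k_eq_one, pow_two] using h.s_pow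
  have hpar : ∀ τ ∈ T, τ ∉ D → s⁻¹ * τ ∈ D := by
    intro τ hτ hτD
    obtain ⟨i, hi⟩ := h.gen τ hτ
    obtain ⟨j, rfl | rfl⟩ := Nat.even_or_odd' i
    · refine absurd ?_ hτD
      have h2 : s ^ (2 * j) ∈ D := by rw [pow_mul, pow_two]; exact Subgroup.pow_mem _ hs2 j
      simpa [mul_assoc] using mul_mem h2 hi
    · have h2 : (s ^ (2 * j)) ∈ D := by rw [pow_mul, pow_two]; exact Subgroup.pow_mem _ hs2 j
      have e : s⁻¹ * τ = s ^ (2 * j) * ((s ^ (2 * j + 1))⁻¹ * τ) := by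
        rw [pow_succ, mul_inv_rev]
        calc s⁻¹ * τ = (s ^ (2 * j) * s⁻¹ * (s ^ (2 * j))⁻¹) * τ := by
              rw [((Commute.refl s).inv_left.pow_right (2 * j)).symm.eq]; group
          _ = _ := by group
      rw [e]
      exact mul_mem h2 hi
  have hTN : s ∈ Subgroup.normalizer (D : Set G) := le_normalizer_pCoreOf M (h.T_le h.s_mem)
  have e : a * b = s * (s⁻¹ * a) * s⁻¹ * (s * s) * (s⁻¹ * b) := by group
  rw [e]
  exact mul_mem (mul_mem ((Subgroup.mem_normalizer_iff.1 hTN _).1 (hpar a ha ha')) hs2) (hpar b hb hb')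

/-- `D` has class at most two when `q = 3`. -/
theorem Local1.commutator_central (h : Local1 M 3 x s T k) {a b c : G} (ha : a ∈ D) (hb : b ∈ D)
    (hc : c ∈ D) : (b * a * b⁻¹ * a⁻¹) * c = c * (b * a * b⁻¹ * a⁻¹) := by
  set N := pCore 2 M
  let t : M := ⟨x, h.x_mem⟩
  have ht : t ^ 3 = 1 := Subtype.ext (by
    show x ^ 3 = 1
    rw [← h.orderOf_x, pow_orderOf_eq_one])
  have hfix : ∀ v ∈ N, t * v = v * t → v = 1 := fun v hv e =>
    Subtype.ext (h.fpf v ⟨v, hv, rfl⟩ (congrArg Subtype.val e).symm)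
  have h3 : ¬ 3 ∣ Nat.card N := by
    intro hd
    have : Fact (Nat.Prime 3) := ⟨Nat.prime_three⟩
    obtain ⟨g, hg⟩ := exists_prime_orderOf_dvd_card' 3 hd
    obtain ⟨n, hn⟩ := IsPGroup.iff_orderOf.1 (Cores.isPGroup_pCore 2 M) g
    rw [hg] at hn
    exact absurd (Nat.prime_three.dvd_of_dvd_pow (dvd_of_eq hn)) (by norm_num)
  obtain ⟨a', ha', rfl⟩ := ha
  obtain ⟨b', hb', rfl⟩ := hb
  obtain ⟨c', hc', rfl⟩ := hc
  have := Subgroup.mem_center_iff.1 (SchurExt.commutatorElement_mem_center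
    (SchurExt.engel_fpf_three ht hfix) h3 ⟨a', ha'⟩ ⟨b', hb'⟩) ⟨c', hc'⟩
  exact (congrArg (fun w : N => ((w : M) : G)) this).symm

/-- No element of the core has a centraliser of index two there (`q = 3`). -/
theorem Local1.mem_center_of_index_two (h : Local1 M 3 x s T k) {w : G} (hw : w ∈ D)
    (hind : ∀ a ∈ D, ∀ b ∈ D, ¬ Commute w a → ¬ Commute w b → Commute w (a * b)) :
    ∀ e ∈ D, Commute w e := by
  by_contra hcon
  push Not at hcon
  obtain ⟨e₀, he₀, hne₀⟩ := hcon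
  have hx3 : x ^ 3 = 1 := by rw [← h.orderOf_x, pow_orderOf_eq_one]
  set N := pCore 2 M
  let t : M := ⟨x, h.x_mem⟩
  have ht : t ^ 3 = 1 := Subtype.ext hx3
  have hfix : ∀ v ∈ N, t * v = v * t → v = 1 := fun v hv e =>
    Subtype.ext (h.fpf v ⟨v, hv, rfl⟩ (congrArg Subtype.val e).symm)
  have prod3 : ∀ a ∈ D, a * (x * a * x⁻¹) * (x⁻¹ * a * x) = 1 := by
    rintro _ ⟨a', ha', rfl⟩
    exact congrArg Subtype.val (SchurExt.prod_fpf_three ht hfix ha')
  have hxi : ∀ a ∈ D, x⁻¹ * a * x ∈ D := fun a ha =>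
    (Subgroup.mem_normalizer_iff''.1 (le_normalizer_pCoreOf M h.x_mem) a).1 ha
  -- the commutator map
  let f : G → G := fun e => e * w * e⁻¹ * w⁻¹
  have fc : ∀ e, Commute w e ↔ f e = 1 := fun e => by
    constructor
    · intro hc
      calc e * w * e⁻¹ * w⁻¹ = (e * w) * e⁻¹ * w⁻¹ := by group
        _ = (w * e) * e⁻¹ * w⁻¹ := by rw [← hc.eq]
        _ = 1 := by group
    · intro hf
      show w * e = e * w
      calc w * e = 1 * (w * e) := (one_mul _).symm
        _ = (e * w * e⁻¹ * w⁻¹) * (w * e) := by rw [show e * w * e⁻¹ * w⁻¹ = 1 from hf]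
        _ = e * w := by group
  have hcen : ∀ e ∈ D, ∀ d ∈ D, f e * d = d * f e := fun e he d hd =>
    h.commutator_central hw he hd
  have fmul : ∀ a ∈ D, ∀ b ∈ D, f (a * b) = f a * f b := by
    intro a ha b hb
    calc f (a * b) = a * (f b * w) * a⁻¹ * w⁻¹ := by simp only [f]; group
      _ = f b * (a * w * a⁻¹ * w⁻¹) := by
          rw [show a * (f b * w) = (a * f b) * w by group, ← hcen b hb a ha]; group
      _ = f b * f a := rfl
      _ = f a * f b := hcen b hb _ (mul_mem (mul_mem (mul_mem ha hw) (inv_mem ha)) (inv_mem hw))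
  -- all values outside the centraliser coincide with an involution `c`
  set c := f e₀ with hcdef
  have hcc : c * c = 1 := by
    rw [hcdef, ← fmul _ he₀ _ he₀, ← fc]
    exact hind _ he₀ _ he₀ hne₀ hne₀
  have hc1 : c ≠ 1 := fun e => hne₀ ((fc _).2 e)
  have fval : ∀ e ∈ D, ¬ Commute w e → f e = c := by
    intro e he hne
    have h1 := (fc _).1 (hind _ he _ he₀ hne hne₀)
    rw [fmul _ he _ he₀] at h1
    calc f e = f e * (c * c) := by rw [hcc, mul_one]
      _ = (f e * c) * c := by group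
      _ = c := by rw [h1, one_mul]
  -- an element commuting with `w` but not with its conjugate
  obtain ⟨e, he, hwe, hwe'⟩ : ∃ e ∈ D, Commute w e ∧ ¬ Commute w (x⁻¹ * e * x) := by
    by_contra hno
    push Not at hno
    have hinv : ∀ e ∈ D, Commute w e → Commute w (x * e * x⁻¹) := by
      intro e he hc
      have h1 := hno _ he hc
      have h2 := hno _ (hxi _ he) h1
      have e1 : x⁻¹ * (x⁻¹ * e * x) * x = x * e * x⁻¹ := by
        have h3 : x⁻¹ * x⁻¹ = x := by
          calc x⁻¹ * x⁻¹ = x⁻¹ * x⁻¹ * x ^ 3 := by rw [hx3, mul_one]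
            _ = x := by rw [pow_three]; group
        calc x⁻¹ * (x⁻¹ * e * x) * x = (x⁻¹ * x⁻¹) * e * (x⁻¹ * x⁻¹)⁻¹ := by simp only [mul_inv_rev, inv_inv, mul_assoc]
          _ = _ := by rw [h3]
      rwa [e1] at h2
    have n1 : ¬ Commute w (x * e₀ * x⁻¹) := fun hc => hne₀ (by
      have := hno _ (h.x_conj he₀) hc
      simpa [mul_assoc] using this)
    have n2 : ¬ Commute w (x⁻¹ * e₀ * x) := fun hc => hne₀ (by
      have := hinv _ (hxi _ he₀) hc
      simpa [mul_assoc] using this)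
    have h1 := congrArg f (prod3 e₀ he₀)
    rw [fmul _ (mul_mem he₀ (h.x_conj he₀)) _ (hxi _ he₀), fmul _ he₀ _ (h.x_conj he₀),
      fval _ (h.x_conj he₀) n1, fval _ (hxi _ he₀) n2, ← hcdef, hcc, one_mul] at h1
    exact hc1 (h1.trans (by simp [f]))
  -- hence also not with the other conjugate
  have hwe'' : ¬ Commute w (x * e * x⁻¹) := by
    intro hc
    have h1 := congrArg f (prod3 e he)
    rw [fmul _ (mul_mem he (h.x_conj he)) _ (hxi _ he), fmul _ he _ (h.x_conj he),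
      (fc _).1 hwe, (fc _).1 hc, one_mul, one_mul, fval _ (hxi _ he) hwe'] at h1
    exact hc1 (h1.trans (by simp [f]))
  -- compare the three commutators with `e`
  have hcmem : c ∈ D := mul_mem (mul_mem (mul_mem he₀ hw) (inv_mem he₀)) (inv_mem hw)
  have h1 : e * (w * (x * w * x⁻¹) * (x⁻¹ * w * x)) * e⁻¹ = 1 := by rw [prod3 w hw]; group
  have e1 : e * w * e⁻¹ = w := by
    calc e * w * e⁻¹ = (w * e) * e⁻¹ := by rw [hwe.eq]
      _ = w := by group
  have e2 : e * (x * w * x⁻¹) * e⁻¹ = (x * c * x⁻¹) * (x * w * x⁻¹) := by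
    rw [show e * (x * w * x⁻¹) * e⁻¹ =
      x * (f (x⁻¹ * e * x) * w) * x⁻¹ by simp only [f]; group, fval _ (hxi _ he) hwe']
    group
  have e3 : e * (x⁻¹ * w * x) * e⁻¹ = (x⁻¹ * c * x) * (x⁻¹ * w * x) := by
    rw [show e * (x⁻¹ * w * x) * e⁻¹ =
      x⁻¹ * (f (x * e * x⁻¹) * w) * x by simp only [f]; group, fval _ (h.x_conj he) hwe'']
    group
  have hx1 : ∀ d ∈ D, x⁻¹ * c * x * d = d * (x⁻¹ * c * x) := by
    intro d hd
    calc x⁻¹ * c * x * d = x⁻¹ * (c * (x * d * x⁻¹)) * x := by group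
      _ = x⁻¹ * ((x * d * x⁻¹) * c) * x := by rw [hcdef, hcen _ he₀ _ (h.x_conj hd)]
      _ = _ := by group
  have hx2 : ∀ d ∈ D, x * c * x⁻¹ * d = d * (x * c * x⁻¹) := by
    intro d hd
    calc x * c * x⁻¹ * d = x * (c * (x⁻¹ * d * x)) * x⁻¹ := by group
      _ = x * ((x⁻¹ * d * x) * c) * x⁻¹ := by rw [hcdef, hcen _ he₀ _ (hxi _ hd)]
      _ = _ := by group
  rw [show e * (w * (x * w * x⁻¹) * (x⁻¹ * w * x)) * e⁻¹ =
    (e * w * e⁻¹) * (e * (x * w * x⁻¹) * e⁻¹) * (e * (x⁻¹ * w * x) * e⁻¹) by group, e1, e2, e3] at h1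
  have h2 : (x * c * x⁻¹) * (x⁻¹ * c * x) = 1 := by
    calc (x * c * x⁻¹) * (x⁻¹ * c * x)
        = (x * c * x⁻¹) * (x⁻¹ * c * x) * (w * (x * w * x⁻¹) * (x⁻¹ * w * x)) := by
          rw [prod3 w hw, mul_one]
      _ = (x * c * x⁻¹) * ((x⁻¹ * c * x) * (w * (x * w * x⁻¹))) * (x⁻¹ * w * x) := by group
      _ = (x * c * x⁻¹) * ((w * (x * w * x⁻¹)) * (x⁻¹ * c * x)) * (x⁻¹ * w * x) := by
          rw [hx1 _ (mul_mem hw (h.x_conj hw))]
      _ = ((x * c * x⁻¹) * w) * (x * w * x⁻¹) * ((x⁻¹ * c * x) * (x⁻¹ * w * x)) := by group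
      _ = (w * (x * c * x⁻¹)) * (x * w * x⁻¹) * ((x⁻¹ * c * x) * (x⁻¹ * w * x)) := by
          rw [hx2 _ hw]
      _ = w * ((x * c * x⁻¹) * (x * w * x⁻¹)) * ((x⁻¹ * c * x) * (x⁻¹ * w * x)) := by group
      _ = 1 := h1
  have h3 := prod3 c hcmem
  rw [mul_assoc, h2, mul_one] at h3
  exact hc1 h3

/-- Two cores of index two in a common `T`: the orders are at most four or the centres coincide. -/
theorem Local1.center_le (h : Local1 M 3 x s T k) {D' : Subgroup G} (hD' : D' ≤ T)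
    (hcard : Nat.card D' = Nat.card D)
    (hidx : ∀ a ∈ T, ∀ b ∈ T, a ∉ D' → b ∉ D' → a * b ∈ D') :
    Nat.card D ≤ 4 ∨ ∀ a ∈ D', (∀ b ∈ D', Commute a b) → a ∈ D ∧ ∀ b ∈ D, Commute a b := by
  by_contra hcon
  push Not at hcon
  obtain ⟨hbig, a, ha, hac, hne⟩ := hcon
  by_cases haD : a ∈ D
  · obtain ⟨b, hb, hab⟩ := hne haD
    refine hab (h.mem_center_of_index_two haD (fun e he e' he' h1 h2 => ?_) b hb)
    exact hac _ (hidx e (h.core_le he) e' (h.core_le he') (fun h3 => h1 (hac e h3))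
      (fun h3 => h2 (hac e' h3)))
  · have h1 : Nat.card D' ≤ 2 * Nat.card ↥(D' ⊓ D) :=
      card_le_two_mul fun u hu v hv => h.mul_mem_core (hD' hu) (hD' hv)
    have h2 := h.sq_le (hD' ha) haD le_rfl (fun v => h.x_conj) (inf_le_right : D' ⊓ D ≤ D)
      (fun v hv => (hac v hv.1).symm)
    rw [hcard] at h1
    nlinarith

/-- If `|Ω₁Z(D)| > 4` then `J(T) ≤ D`. -/
theorem Local1.thompson_le (h : Local1 M q x s T k) (hW : 4 < Nat.card (omegaZ D)) :
    thompsonSubgroupOf 2 T ≤ D := by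
  rw [ThompsonJ.thompsonSubgroupOf_le_iff]
  intro A hA
  by_contra hAD
  obtain ⟨τ, hτA, hτD⟩ := SetLike.not_le_iff_exists.1 hAD
  have hAe := ThompsonJ.isElementaryAbelian_iff.1 hA.elem
  have h2i : ∀ a ∈ A, a ∉ D → ∃ i : ℕ, (s ^ i)⁻¹ * a ∈ D ∧ s ^ i * s ^ i ∈ D ∧ ¬ 2 ^ k ∣ i := by
    intro a ha haD
    obtain ⟨i, hi⟩ := h.gen a (hA.le ha)
    refine ⟨i, hi, ?_, fun hd => haD ?_⟩
    · have haN : a ∈ Subgroup.normalizer (D : Set G) :=
        le_normalizer_pCoreOf M (h.T_le (hA.le ha))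
      have hsN : s ^ i ∈ Subgroup.normalizer (D : Set G) :=
        le_normalizer_pCoreOf M (h.T_le (T.pow_mem h.s_mem i))
      set d := (s ^ i)⁻¹ * a
      have e : s ^ i * s ^ i = (s ^ i * (s ^ i * d⁻¹ * (s ^ i)⁻¹) * d⁻¹ * (s ^ i)⁻¹)⁻¹⁻¹ *
          (s ^ i * d * (s ^ i * d)) * 1 := by simp only [mul_one, inv_inv]; group
      have e2 : s ^ i * d = a := by simp [d]
      rw [e, e2]
      have e3 : a * a = 1 := by
        have := hAe.2 a ha
        rwa [pow_two] at this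
      rw [e3, mul_one, mul_one, inv_inv]
      have h4 : s ^ i * d⁻¹ * (s ^ i)⁻¹ ∈ D := (Subgroup.mem_normalizer_iff.1 hsN _).1 (inv_mem hi)
      have h5 := (Subgroup.mem_normalizer_iff.1 hsN _).1 (mul_mem h4 (inv_mem hi))
      simpa [mul_assoc] using h5
    · obtain ⟨c, hc⟩ := hd
      have : s ^ i ∈ D := by rw [hc, pow_mul]; exact Subgroup.pow_mem _ h.s_pow c
      simpa [mul_assoc] using mul_mem this hi
  have hprod : ∀ a ∈ A, ∀ b ∈ A, a ∉ D → b ∉ D → a * b ∈ D := by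
    intro a ha b hb haD hbD
    obtain ⟨i, hi, hi2, hind⟩ := h2i a ha haD
    obtain ⟨j, hj, hj2, hjnd⟩ := h2i b hb hbD
    rw [← pow_add] at hi2 hj2
    have d1 := h.s_dvd _ hi2
    have d2 := h.s_dvd _ hj2
    have d3 : 2 ^ k ∣ i + j := by
      obtain ⟨k', rfl⟩ : ∃ k', k = k' + 1 := ⟨k - 1, by have := h.one_le; omega⟩
      obtain ⟨u, hu⟩ := d1
      obtain ⟨v, hv⟩ := d2
      have hu' : i = 2 ^ k' * u := by rw [pow_succ] at hu; nlinarith
      have hv' : j = 2 ^ k' * v := by rw [pow_succ] at hv; nlinarith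
      obtain ⟨u', rfl | rfl⟩ := Nat.even_or_odd' u
      · exact absurd (hu' ▸ ⟨u', by rw [pow_succ]; ring⟩) hind
      obtain ⟨v', rfl | rfl⟩ := Nat.even_or_odd' v
      · exact absurd (hv' ▸ ⟨v', by rw [pow_succ]; ring⟩) hjnd
      exact ⟨u' + v' + 1, by rw [hu', hv', pow_succ]; ring⟩
    have hsN : s ^ j ∈ Subgroup.normalizer (D : Set G) :=
      le_normalizer_pCoreOf M (h.T_le (T.pow_mem h.s_mem j))
    have h3 : s ^ (i + j) ∈ D := by
      obtain ⟨c, hc⟩ := d3
      rw [hc, pow_mul]; exact Subgroup.pow_mem _ h.s_pow c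
    have e : a * b = s ^ (i + j) * ((s ^ j)⁻¹ * ((s ^ i)⁻¹ * a) * s ^ j) * ((s ^ j)⁻¹ * b) := by
      rw [pow_add]; group
    rw [e]
    exact mul_mem (mul_mem h3 ((Subgroup.mem_normalizer_iff''.1 hsN _).1 hi)) hj
  set W := omegaZ D
  set H := A ⊓ D with hH
  have h1 : Nat.card A ≤ 2 * Nat.card H := card_le_two_mul hprod
  have hWe : IsElementaryAbelian 2 W := ThompsonJ.isElementaryAbelian_iff.2
    ⟨fun a ha b hb => (ha.2.2 b hb.1).symm, fun a ha => by rw [pow_two]; exact ha.2.1⟩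
  have hHW : ∀ a ∈ H, ∀ b ∈ W, Commute a b := fun a ha b hb => (hb.2.2 a ha.2).symm
  have hHe : IsElementaryAbelian 2 H := ThompsonJ.isElementaryAbelian_mono hA.elem inf_le_left
  have key : ∀ B : Subgroup G, B ≤ W → Nat.card ↥(H ⊔ B) ≤ Nat.card A := by
    intro B hB
    refine hA.card_le _ (sup_le (inf_le_right.trans h.core_le)
      ((hB.trans (omegaZ_le _)).trans h.core_le)) ?_
    refine ThompsonJ.isElementaryAbelian_sup hHe (ThompsonJ.isElementaryAbelian_mono hWe hB) ?_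
    intro a ha
    rw [Subgroup.mem_centralizer_iff]
    exact fun b hb => ((hHW a ha b (hB hb)).eq).symm
  have h2 : Nat.card W ≤ 2 * Nat.card ↥(W ⊓ H) := by
    refine card_le_two_mul fun a ha b hb haH hbH => ?_
    have hlt : H < H ⊔ Subgroup.zpowers a := by
      refine lt_of_le_of_ne le_sup_left fun e => haH ?_
      rw [e]; exact le_sup_right (a := H) (Subgroup.mem_zpowers a)
    have hmem : b ∈ H ⊔ Subgroup.zpowers a := by
      by_contra hb'
      have hlt2 : H ⊔ Subgroup.zpowers a < H ⊔ Subgroup.closure {a, b} := by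
        refine lt_of_le_not_ge (sup_le_sup_left (Subgroup.zpowers_le.2
          (Subgroup.subset_closure (Set.mem_insert _ _))) _) fun hle => hb' ?_
        exact hle (le_sup_right (a := H) (Subgroup.subset_closure (Set.mem_insert_of_mem _ rfl)))
      have h5 := key (Subgroup.closure {a, b}) (by
        rw [Subgroup.closure_le]; rintro y (rfl | rfl) <;> assumption)
      have := two_mul_card_le hlt
      have := two_mul_card_le hlt2
      have := Nat.card_pos (α := H)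
      omega
    have hN : Subgroup.zpowers a ≤ Subgroup.normalizer (H : Set G) := by
      rw [Subgroup.zpowers_le, Subgroup.mem_normalizer_iff]
      intro c
      refine ⟨fun hc => ?_, fun hc => ?_⟩
      · rwa [← (hHW c hc a ha).eq, mul_inv_cancel_right]
      · have h6 : a * c * a⁻¹ * a = a * (a * c * a⁻¹) := (hHW _ hc a ha).eq
        have h7 : a * c * a⁻¹ = c := by
          rw [inv_mul_cancel_right] at h6
          exact (mul_left_cancel h6).symm
        rwa [h7] at hc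
    rw [← SetLike.mem_coe, Subgroup.coe_mul_of_right_le_normalizer_left H (Subgroup.zpowers a) hN]
      at hmem
    obtain ⟨c, hc, z, hz, rfl⟩ := hmem
    obtain ⟨n, rfl⟩ := Subgroup.mem_zpowers_iff.1 hz
    obtain ⟨m, rfl | rfl⟩ := Int.even_or_odd' n
    · exfalso
      refine hbH ?_
      have e : a ^ (2 * m) = 1 := by rw [zpow_mul, zpow_two, ha.2.1, one_zpow]
      simpa [e] using hc
    · have e : a ^ (2 * m + 1) = a := by rw [zpow_add, zpow_one, zpow_mul, zpow_two, ha.2.1, one_zpow, one_mul]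
      simp only [e] at hbH ⊢
      rw [← mul_assoc, ← (hHW c hc a ha).eq, mul_assoc, ha.2.1, mul_one]
      exact hc
  have h3 := h.sq_le (hA.le hτA) hτD (omegaZ_le D) (fun a => h.x_omegaZ)
    (inf_le_left : W ⊓ H ≤ W) (fun a ha => (hAe.1 ha.2.1 τ hτA).symm)
  nlinarith

/-- If `|Ω₁Z(D)| > 4` then `M = N(J(T))`. -/
theorem Local1.normalizer_thompson (h : Local1 M q x s T k) (hW : 4 < Nat.card (omegaZ D)) :
    Subgroup.normalizer (thompsonSubgroupOf 2 T : Set G) = M := by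
  have : Fact (Nat.Prime 2) := ⟨Nat.prime_two⟩
  have hJ := ThompsonJ.thompsonSubgroupOf_eq_of_le h.core_le (h.thompson_le hW)
  refine h.maxLoc.normalizer_eq (h.T_two.to_le (ThompsonJ.thompsonSubgroupOf_le 2 T)) ?_ ?_
  · refine ThompsonJ.thompsonSubgroupOf_ne_bot ?_
    obtain ⟨⟨a, ha⟩, hne⟩ := Subgroup.ne_bot_iff_exists_ne_one.1 h.maxLoc.core_ne_bot
    exact (two_dvd_of_mem h.T_two (h.core_le ha) (fun e => hne (Subtype.ext e))).trans
      (Subgroup.orderOf_dvd_natCard T (h.core_le ha))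
  · rw [← hJ]
    exact (le_normalizer_pCoreOf M).trans (ThompsonJ.normalizer_le_normalizer_thompsonSubgroupOf 2 _)

end CfsgLib.PrimeElementOrders
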