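import Cfsg.Agent.Lib.CharTheory.Burnside
import Cfsg.Agent.S1475

/-!
Finite groups all of whose non-trivial elements have order a power of two or a prime other than five.
-/

set_option autoImplicit false

namespace CfsgLib.PrimeElementOrders

/-- Every non-trivial element has order a power of `2` or a prime other than `5`. -/
def EO (G : Type*) [Group G] : Prop :=
  ∀ g : G, g ≠ 1 → (∃ k : ℕ, orderOf g = 2 ^ k) ∨ ((orderOf g).Prime ∧ orderOf g ≠ 5)

variable {G : Type*} [Group G]

theorem EO.subgroup (h : EO G) (H : Subgroup G) : EO ↥H := fun g hg => by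
  have := h (g : G) (by simpa using hg)
  rwa [Subgroup.orderOf_coe] at this

theorem EO.of_injective {H : Type*} [Group H] (h : EO G) (f : H →* G) (hf : Function.Injective f) :
    EO H := fun g hg => by
  have := h (f g) ((map_ne_one_iff f hf).2 hg)
  rwa [orderOf_injective f hf] at this

theorem EO.isPrimePow (h : EO G) (g : G) : IsPrimePow (orderOf g) ∨ g = 1 := by
  by_cases hg : g = 1
  · exact Or.inr hg
  refine Or.inl ?_
  rcases h g hg with ⟨k, hk⟩ | ⟨hp, -⟩
  · rcases k with _ | k
    · exact absurd (orderOf_eq_one_iff.1 (by simpa using hk)) hg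
    · exact hk ▸ (Nat.prime_two.isPrimePow).pow (Nat.succ_ne_zero k)
  · exact hp.isPrimePow

variable [Finite G]

theorem EO.of_surjective {H : Type*} [Group H] (h : EO G) (f : G →* H)
    (hf : Function.Surjective f) : EO H := fun y hy => by
  obtain ⟨g, rfl⟩ := hf y
  have hg : g ≠ 1 := fun e => hy (by rw [e, map_one])
  have hd : orderOf (f g) ∣ orderOf g := orderOf_map_dvd f g
  rcases h g hg with ⟨k, hk⟩ | ⟨hp, h5⟩
  · rw [hk] at hd
    obtain ⟨j, -, hj⟩ := (Nat.dvd_prime_pow Nat.prime_two).1 hd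
    exact Or.inl ⟨j, hj⟩
  · rcases (Nat.dvd_prime hp).1 hd with e | e
    · exact absurd (orderOf_eq_one_iff.1 e) hy
    · exact Or.inr (e ▸ ⟨hp, h5⟩)

/-- An element whose order is divisible by an odd prime has that order. -/
theorem EO.orderOf_eq (h : EO G) {g : G} {p : ℕ} (hp : p.Prime) (hp2 : p ≠ 2) (hd : p ∣ orderOf g) :
    orderOf g = p := by
  have hg : g ≠ 1 := fun e => hp.not_dvd_one (by rwa [e, orderOf_one] at hd)
  rcases h g hg with ⟨k, hk⟩ | ⟨hq, -⟩
  · exact absurd ((Nat.prime_dvd_prime_iff_eq hp Nat.prime_two).1 (hp.dvd_of_dvd_pow (hk ▸ hd))) hp2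
  · exact ((Nat.prime_dvd_prime_iff_eq hp hq).1 hd).symm

theorem EO.ne_five (h : EO G) (g : G) : orderOf g ≠ 5 := fun h5 => by
  have hg : g ≠ 1 := fun e => by rw [e, orderOf_one] at h5; omega
  rcases h g hg with ⟨k, hk⟩ | ⟨-, hne⟩
  · rw [hk] at h5
    exact absurd (Nat.prime_five.dvd_of_dvd_pow (n := k) (m := 2) (dvd_of_eq h5.symm)) (by norm_num)
  · exact hne h5

theorem EO.five_not_dvd (h : EO G) : ¬ 5 ∣ Nat.card G := fun hd => by
  have : Fact (Nat.Prime 5) := ⟨Nat.prime_five⟩
  obtain ⟨g, hg⟩ := exists_prime_orderOf_dvd_card' 5 hd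
  exact h.ne_five g hg

/-- Commuting elements cannot have orders divisible by two different primes. -/
theorem EO.not_commute (h : EO G) {p q : ℕ} (hp : p.Prime) (hq : q.Prime) (hpq : p ≠ q) {a b : G}
    (ha : p ∣ orderOf a) (hb : q ∣ orderOf b) (hab : Commute a b) : False := by
  obtain ⟨x, hx⟩ := CfsgLib.OrderDegrees.exists_orderOf_eq_mul_of_commute hp hq hpq hab ha hb
  by_cases hp2 : p = 2
  · have := h.orderOf_eq hq (hp2 ▸ hpq.symm) (hx ▸ dvd_mul_left q p : q ∣ orderOf x)
    rw [this] at hx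
    exact absurd hx (lt_mul_left hq.pos hp.one_lt).ne
  · have := h.orderOf_eq hp hp2 (hx ▸ dvd_mul_right p q : p ∣ orderOf x)
    rw [this] at hx
    exact absurd hx (lt_mul_right hp.pos hq.one_lt).ne

theorem two_dvd_orderOf {g : G} (hg : g ≠ 1) {k : ℕ} (hk : orderOf g = 2 ^ k) : 2 ∣ orderOf g := by
  rcases k with _ | k
  · exact absurd (orderOf_eq_one_iff.1 (by simpa using hk)) hg
  · exact hk ▸ dvd_pow_self 2 (Nat.succ_ne_zero k)

/-- An element commuting with a non-trivial 2-element has 2-power order. -/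
theorem EO.orderOf_of_commute (h : EO G) {t g : G} (ht2 : 2 ∣ orderOf t)
    (hc : Commute t g) : ∃ k, orderOf g = 2 ^ k := by
  by_cases hg : g = 1
  · exact ⟨0, by simp [hg]⟩
  rcases h g hg with hk | ⟨hp, -⟩
  · exact hk
  · by_cases h2 : orderOf g = 2
    · exact ⟨1, by simpa using h2⟩
    · exact (h.not_commute Nat.prime_two hp (Ne.symm h2) ht2 dvd_rfl hc).elim

/-- Centralisers of non-trivial 2-elements are 2-groups. -/
theorem EO.isPGroup_centralizer (h : EO G) {t : G} (ht2 : 2 ∣ orderOf t) :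
    IsPGroup 2 (Subgroup.centralizer ({t} : Set G)) := fun g => by
  obtain ⟨k, hk⟩ := h.orderOf_of_commute ht2 (g := (g : G))
    ((Subgroup.mem_centralizer_singleton_iff.1 g.2).symm)
  exact ⟨k, Subtype.ext (by rw [SubgroupClass.coe_pow, ← hk, pow_orderOf_eq_one, Subgroup.coe_one])⟩

/-- A solvable group with this property has at most two prime divisors. -/
theorem EO.primeFactors_le_of_solvable (h : EO G) [Group.IsSolvable G] :
    (Nat.card G).primeFactors.card ≤ 2 :=
  Cfsg.Agent.S1475.result h.isPrimePow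

omit [Finite G] in
theorem isSolvable_of_primeFactors_le.{u} {H : Type u} [Group H] [Finite H]
    (h : (Nat.card H).primeFactors.card ≤ 2) : Group.IsSolvable H := by
  have hne : Nat.card H ≠ 0 := Nat.card_pos.ne'
  have hprod : ∏ p ∈ (Nat.card H).primeFactors, p ^ (Nat.card H).factorization p = Nat.card H :=
    (Nat.prod_primeFactors_pow_factorization hne).symm
  obtain ⟨p, q, a, b, hp, hq, hd⟩ : ∃ p q a b, Nat.Prime p ∧ Nat.Prime q ∧
      Nat.card H ∣ p ^ a * q ^ b := by
    rcases Nat.eq_or_lt_of_le h with h2 | h2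
    · obtain ⟨p, q, hpq, he⟩ := Finset.card_eq_two.1 h2
      have hp : p ∈ (Nat.card H).primeFactors := he ▸ Finset.mem_insert_self p _
      have hq : q ∈ (Nat.card H).primeFactors := he ▸ Finset.mem_insert_of_mem (Finset.mem_singleton_self q)
      refine ⟨p, q, (Nat.card H).factorization p, (Nat.card H).factorization q, Nat.prime_of_mem_primeFactors hp, Nat.prime_of_mem_primeFactors hq, ?_⟩
      rw [he, Finset.prod_pair hpq] at hprod
      exact dvd_of_eq hprod.symm
    rcases Nat.eq_or_lt_of_le (Nat.lt_succ_iff.1 h2) with h1 | h1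
    · obtain ⟨p, he⟩ := Finset.card_eq_one.1 h1
      have hp : p ∈ (Nat.card H).primeFactors := he ▸ Finset.mem_singleton_self p
      refine ⟨p, 2, (Nat.card H).factorization p, 0, Nat.prime_of_mem_primeFactors hp, Nat.prime_two, ?_⟩
      rw [he, Finset.prod_singleton] at hprod
      rw [pow_zero, mul_one]
      exact dvd_of_eq hprod.symm
    · rw [Finset.card_eq_zero.1 (Nat.lt_one_iff.1 h1), Finset.prod_empty] at hprod
      exact ⟨2, 2, 0, 0, Nat.prime_two, Nat.prime_two, by rw [← hprod]; exact one_dvd _⟩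
  exact CfsgLib.CharTheory.isSolvable_of_card_dvd_pow_mul_pow p q a b hp hq hd

end CfsgLib.PrimeElementOrders
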