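import Cfsg.Agent.Lib.PrimeElementOrders.Pair
import Cfsg.Agent.Lib.PGroups.MaximalClass
import Cfsg.Agent.Lib.TwoGroups.CyclicMax
import Cfsg.Agent.Lib.Involutions.ThompsonTransfer
import Cfsg.Agent.S0508

/-!
A self-centralising four-group: the group is `PSL₂(q)`, `q` odd.
-/

set_option autoImplicit false

open Cfsg

namespace CfsgLib.PrimeElementOrders

variable {G : Type*} [Group G] [Finite G]

theorem exists_index_two_of_transfer (S : Sylow 2 G) (S₀ : Subgroup (S : Subgroup G))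
    (hS₀ : S₀.index = 2) (v : G)
    (hv : ∀ (g : G) (r : ℕ) (hm : g⁻¹ * v ^ r * g ∈ (S : Subgroup G)),
      ((⟨_, hm⟩ : (S : Subgroup G)) ∈ S₀ ↔ Even r)) :
    ∃ K : Subgroup G, K.index = 2 := by
  classical
  have : Fact (Nat.Prime 2) := ⟨Nat.prime_two⟩
  let φ : (S : Subgroup G) →* ℤˣ :=
    { toFun := fun g => if g ∈ S₀ then 1 else -1
      map_one' := if_pos S₀.one_mem
      map_mul' := fun a b => by
        by_cases ha : a ∈ S₀ <;> by_cases hb : b ∈ S₀ <;>
          simp [ha, hb, Subgroup.mul_mem_iff_of_index_two hS₀] }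
  haveI : (S : Subgroup G).FiniteIndex := ⟨Subgroup.index_ne_zero_of_finite⟩
  letI : Fintype (Quotient (MulAction.orbitRel (Subgroup.zpowers v) (G ⧸ (S : Subgroup G)))) :=
    Fintype.ofFinite _
  refine Involutions.exists_index_two_of_hom (MonoidHom.transfer φ) (x := v) ?_
  rw [MonoidHom.transfer_eq_prod_quotient_orbitRel_zpowers_quot]
  have hval : ∀ q : Quotient (MulAction.orbitRel (Subgroup.zpowers v) (G ⧸ (S : Subgroup G))),
      φ ⟨q.out.out⁻¹ * v ^ Function.minimalPeriod (v • ·) q.out * q.out.out,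
          QuotientGroup.out_conj_pow_minimalPeriod_mem (S : Subgroup G) v q.out⟩ =
        (-1 : ℤˣ) ^ Function.minimalPeriod (v • ·) q.out := by
    intro q
    show (if _ then (1 : ℤˣ) else -1) = _
    rcases Nat.even_or_odd (Function.minimalPeriod (v • ·) q.out) with he | ho
    · rw [if_pos ((hv _ _ _).2 he), he.neg_one_pow]
    · rw [if_neg (fun h => Nat.not_even_iff_odd.2 ho ((hv _ _ _).1 h)), ho.neg_one_pow]
  simp only [hval, Finset.prod_pow_eq_pow_sum]
  have hsum : ∑ q : Quotient (MulAction.orbitRel (Subgroup.zpowers v) (G ⧸ (S : Subgroup G))),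
      Function.minimalPeriod (v • ·) q.out = (S : Subgroup G).index := by
    rw [Subgroup.index, Nat.card_congr (Subgroup.quotientEquivSigmaZMod (S : Subgroup G) v),
      Nat.card_sigma]
    exact Finset.sum_congr rfl fun q _ => (Nat.card_zmod _).symm
  rw [hsum]
  have hodd : Odd (S : Subgroup G).index :=
    Nat.odd_iff.2 (by have := S.not_dvd_index; omega)
  rw [hodd.neg_one_pow]
  decide

/-- A self-centralising four-group in a group of this kind forces `PSL₂`. -/
theorem Ctx.exists_psl_of_four (hC : Ctx G) {M T : Subgroup G} {k : ℕ} {x s : G}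
    (h : Local1 M 3 x s T k) (h4 : Nat.card (pCoreOf 2 M) = 4) :
    ∃ (F : Type) (_ : Field F) (_ : Fintype F), Odd (Fintype.card F) ∧
      Nonempty (G ≃* Matrix.ProjectiveSpecialLinearGroup (Fin 2) F) := by
  have : Fact (Nat.Prime 2) := ⟨Nat.prime_two⟩
  set D := pCoreOf 2 M with hD
  have hW : omegaZ D = D := by
    refine Subgroup.eq_of_le_of_card_ge (omegaZ_le D) ?_
    have h1 := h.dvd_card_sub_one (omegaZ_le D) (fun a => h.x_omegaZ)
    have h2 : Nat.card (omegaZ D) ≠ 1 := fun e =>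
      omegaZ_ne_bot (isPGroup_pCoreOf M) h.maxLoc.core_ne_bot (Subgroup.eq_bot_of_card_eq _ e)
    have h3 := Nat.card_pos (α := omegaZ D)
    have h5 := Subgroup.card_le_of_le (omegaZ_le D)
    omega
  have hsq : ∀ a ∈ D, a * a = 1 := fun a ha => (hW.symm ▸ ha : a ∈ omegaZ D).2.1
  have hcomm : ∀ a ∈ D, ∀ b ∈ D, a * b = b * a := fun a ha b hb =>
    (hW.symm ▸ ha : a ∈ omegaZ D).2.2 b hb
  obtain ⟨S, hTS⟩ := h.T_two.exists_le_sylow
  have hDS : D ≤ (S : Subgroup G) := h.core_le.trans hTS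
  obtain ⟨n, hn⟩ := IsPGroup.iff_card.1 S.2
  have hn3 : 3 ≤ n := by
    have h1 := two_mul_card_le (lt_of_le_of_ne h.core_le fun e => h.s_notMem (e ▸ h.s_mem))
    have h2 := Subgroup.card_le_of_le hTS
    rw [h4] at h1
    rw [hn] at h2
    by_contra hh
    have := Nat.pow_le_pow_right two_pos (show n ≤ 2 by omega)
    omega
  have hA : Nat.card (D.subgroupOf (S : Subgroup G)) = 2 ^ 2 := by
    rw [Nat.card_congr (Subgroup.subgroupOfEquivOfLe hDS).toEquiv, h4]; rfl
  have hCA : Subgroup.centralizer (D.subgroupOf (S : Subgroup G) : Set (S : Subgroup G)) =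
      D.subgroupOf (S : Subgroup G) := by
    ext a
    constructor
    · intro ha
      refine h.cent fun b hb => ?_
      exact congrArg Subtype.val (ha ⟨b, hDS hb⟩ hb)
    · intro ha b hb
      exact Subtype.ext (hcomm _ hb _ ha)
  have hcl := PGroups.class_of_self_centralizing_sq n hn _ hA hCA
  have hcomc := PGroups.card_commutator_of_maximal_class hn3 hn hcl
  obtain ⟨n', rfl⟩ : ∃ n', n = n' + 3 := ⟨n - 3, by omega⟩
  obtain ⟨u', hu', huidx⟩ := PGroups.exists_cyclic_index_two n' hn (by rw [hcomc]; congr 1)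
  obtain ⟨b, hbD, hbu⟩ : ∃ b : (S : Subgroup G), (b : G) ∈ D ∧ b ∉ Subgroup.zpowers u' := by
    by_contra! hall
    have hle : D.subgroupOf (S : Subgroup G) ≤ Subgroup.zpowers u' := fun b hb => hall b hb
    have : IsCyclic (D.subgroupOf (S : Subgroup G)) := Subgroup.isCyclic_of_le hle
    obtain ⟨g, hg⟩ := IsCyclic.exists_generator (α := D.subgroupOf (S : Subgroup G))
    have h1 := orderOf_eq_card_of_forall_mem_zpowers hg
    have h2 : g ^ 2 = 1 := by
      rw [pow_two]
      exact Subtype.ext (Subtype.ext (hsq _ g.2))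
    have h3 := Nat.le_of_dvd two_pos (orderOf_dvd_of_pow_eq_one h2)
    rw [h1, hA] at h3
    norm_num at h3
  set u : (S : Subgroup G) := u'
  have hb2 : b * b = 1 := Subtype.ext (hsq _ hbD)
  have hc2 : Nat.card (S : Subgroup G) = 2 * orderOf u := by rw [hn, hu']; ring
  have huN : (Subgroup.zpowers u).Normal := Subgroup.normal_of_index_eq_two huidx
  obtain ⟨r, hr⟩ := Subgroup.mem_zpowers_iff.1 (huN.conj_mem u (Subgroup.mem_zpowers u) b)
  have hr' : b * u * b⁻¹ = u ^ r := hr.symm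
  have hform := fun g => TwoGroups.exists_eq_zpow_or_zpow_mul hc2 hbu g
  have hdvd : ∀ j : ℤ, u ^ j = 1 ↔ (2 : ℤ) ^ (n' + 2) ∣ j := fun j => by
    rw [TwoGroups.zpow_eq_one_iff_dvd hu']; push_cast; rfl
  have hswap : ∀ j : ℤ, b * u ^ j = u ^ (r * j) * b := TwoGroups.mul_zpow_eq hr'
  have hrr : (2 : ℤ) ^ (n' + 2) ∣ r * r - 1 := by
    rw [← hdvd, zpow_sub, zpow_one]
    have h1 : b * (b * u * b⁻¹) * b⁻¹ = u := by
      calc b * (b * u * b⁻¹) * b⁻¹ = (b * b) * u * (b * b)⁻¹ := by group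
        _ = u := by rw [hb2]; group
    rw [hr', TwoGroups.conj_zpow_eq hr'] at h1
    rw [h1, mul_inv_cancel]
  -- nothing outside `D` centralises it
  have hnotA : ¬ (2 : ℤ) ^ (n' + 2) ∣ r - 1 := by
    intro hd
    have hur : u ^ r = u := by
      have := (hdvd (r - 1)).2 hd
      rw [zpow_sub, zpow_one, mul_inv_eq_one] at this
      exact this
    rw [hur] at hr'
    have hcu : Commute b u := mul_inv_eq_iff_eq_mul.1 hr'
    have hmem : u ∈ D.subgroupOf (S : Subgroup G) := by
      rw [← hCA, Subgroup.mem_centralizer_iff]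
      intro d _
      rcases hform d with ⟨j, rfl⟩ | ⟨j, rfl⟩
      · exact ((Commute.refl u).zpow_left j).eq
      · exact (((Commute.refl u).zpow_left j).mul_left hcu).eq
    have h2 := Nat.le_of_dvd two_pos (orderOf_dvd_of_pow_eq_one
      (show u ^ 2 = 1 by rw [pow_two]; exact Subtype.ext (hsq _ hmem)))
    rw [hu'] at h2
    have := Nat.pow_le_pow_right two_pos (show 2 ≤ n' + 2 by omega)
    omega
  set zS : (S : Subgroup G) := u ^ ((2 : ℤ) ^ (n' + 1)) with hzS
  have hzo : orderOf (zS : G) = 2 := by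
    rw [Subgroup.orderOf_coe]
    refine orderOf_eq_prime ?_ ?_
    · rw [hzS, ← zpow_natCast, ← zpow_mul, hdvd]
      exact ⟨1, by push_cast; ring⟩
    · rw [hzS, Ne, hdvd]
      intro hd
      have := Int.le_of_dvd (by positivity) hd
      have : (2 : ℤ) ^ (n' + 1) < 2 ^ (n' + 2) := pow_lt_pow_right₀ (by norm_num) (by omega)
      omega
  have hzc : ∀ g : (S : Subgroup G), g * zS = zS * g := by
    intro g
    have hb : b * zS = zS * b := by
      rw [hzS, hswap]
      congr 1
      rw [← mul_inv_eq_one, ← zpow_neg, ← zpow_add, hdvd]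
      obtain ⟨c, hc⟩ : (2 : ℤ) ∣ r - 1 := by
        obtain ⟨e, he⟩ := hrr
        rcases Int.even_or_odd r with ⟨w, hw⟩ | ⟨w, hw⟩
        · exfalso
          have : (2 : ℤ) ∣ 1 := ⟨2 * w * w - 2 ^ (n' + 1) * e, by rw [hw, pow_succ] at he; linarith⟩
          exact absurd this (by decide)
        · exact ⟨w, by omega⟩
      exact ⟨c, by rw [pow_succ 2 (n' + 1), show r = 2 * c + 1 by omega]; ring⟩
    rcases hform g with ⟨j, rfl⟩ | ⟨j, rfl⟩
    · exact ((Commute.refl u).zpow_zpow j _).eq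
    · exact ((((Commute.refl u).zpow_zpow j _)).mul_left hb).eq
  have hS : Subgroup.centralizer ({(zS : G)} : Set G) = (S : Subgroup G) := by
    refine S.3 (hC.eo.isPGroup_centralizer (by rw [hzo])) fun g hg => ?_
    rw [Subgroup.mem_centralizer_singleton_iff]
    exact congrArg Subtype.val (hzc ⟨g, hg⟩)
  by_cases hB : (2 : ℤ) ^ (n' + 2) ∣ r + 1
  · -- the dihedral case
    have hdih : Nonempty ((S : Subgroup G) ≃* DihedralGroup (2 ^ (n' + 2))) :=
      TwoGroups.nonempty_mulEquiv_dihedral hu' (by rw [hn]; ring) hbu (by rw [pow_two]; exact hb2) (by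
        rw [hr', ← zpow_neg_one, ← mul_inv_eq_one, ← zpow_neg, ← zpow_add, hdvd]
        simpa using hB)
    have := hC.simple
    refine Cfsg.Agent.S0508.result S (2 ^ (n' + 2))
      (by have := Nat.pow_le_pow_right two_pos (show 1 ≤ n' + 2 by omega); omega) hdih (zS : G) hzo zS.2
      (fun g hg => congrArg Subtype.val (hzc ⟨g, hg⟩)) ⊥ ?_ (fun e => absurd rfl e) ?_
      (fun Y hY hne => absurd (le_bot_iff.1 hY) hne)
    · symm
      rw [Subgroup.map_eq_bot_iff_of_injective _ (Subgroup.subtype_injective _)]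
      have hp : IsPGroup 2 (Subgroup.centralizer ({(zS : G)} : Set G)) := hS.symm ▸ S.2
      obtain ⟨j, hj⟩ := IsPGroup.iff_card.1 (hp.to_subgroup (oddCore (Subgroup.centralizer ({(zS : G)} : Set G))))
      refine Subgroup.eq_bot_of_card_eq _ ?_
      have hco := Cores.card_pPrimeCore_coprime (G := Subgroup.centralizer ({(zS : G)} : Set G)) 2
      change Nat.Coprime (Nat.card (oddCore _)) 2 at hco
      rw [hj] at hco ⊢
      rcases j with _ | j
      · rfl
      · exact absurd (hco.coprime_dvd_left (dvd_pow_self 2 (Nat.succ_ne_zero j))) (by norm_num)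
    · intro g _ hg
      refine absurd ?_ hg
      intro a ha
      rw [Subgroup.coe_bot, Set.mem_singleton_iff] at ha
      rw [ha, one_mul, mul_one]
  -- the semidihedral case is impossible
  exfalso
  obtain ⟨m, rfl⟩ : ∃ m, n' = m + 1 := by
    refine Nat.exists_eq_succ_of_ne_zero fun e => ?_
    subst e
    rcases Int.even_or_odd r with ⟨w, hw⟩ | ⟨w, hw⟩
    · obtain ⟨c, hc⟩ := hrr
      have : (2 : ℤ) ∣ 1 := ⟨2 * w * w - 2 * c, by rw [hw] at hc; norm_num at hc; linarith⟩
      exact absurd this (by decide)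
    · rcases Int.even_or_odd w with ⟨c, hc⟩ | ⟨c, hc⟩
      · exact hnotA ⟨c, by norm_num; omega⟩
      · exact hB ⟨c + 1, by norm_num; omega⟩
  rcases TwoGroups.sq_sub_one_cases (m := m + 1) hrr with hd | hd
  · -- modular: `u²` centralises `D`
    obtain ⟨c, hc⟩ := hd
    have hu2b : Commute b (u * u) := by
      have h1 : b * u ^ (2 : ℤ) = u ^ (2 : ℤ) * b := by
        rw [hswap]
        congr 1
        rw [← mul_inv_eq_one, ← zpow_neg, ← zpow_add, hdvd]
        exact ⟨c, by rw [show r = 2 ^ (m + 1 + 1) * c + 1 by linarith]; ring⟩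
      rwa [zpow_two] at h1
    have hmem : u * u ∈ D.subgroupOf (S : Subgroup G) := by
      rw [← hCA, Subgroup.mem_centralizer_iff]
      intro d _
      rcases hform d with ⟨j, rfl⟩ | ⟨j, rfl⟩
      · exact (((Commute.refl u).zpow_left j).mul_right ((Commute.refl u).zpow_left j)).eq
      · exact ((((Commute.refl u).zpow_left j).mul_right ((Commute.refl u).zpow_left j)).mul_left hu2b).eq
    have h2 := Nat.le_of_dvd (by norm_num) (orderOf_dvd_of_pow_eq_one
      (show u ^ 4 = 1 by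
        rw [show u ^ 4 = (u * u) * (u * u) by simp [pow_succ, mul_assoc]]
        exact Subtype.ext (hsq _ hmem)))
    rw [hu'] at h2
    have := Nat.pow_le_pow_right two_pos (show 3 ≤ m + 1 + 2 by omega)
    omega
  obtain ⟨c, hc⟩ := hd
  have hcodd : Odd c := by
    rcases Int.even_or_odd c with ⟨w, hw⟩ | ho
    · exact absurd ⟨w, by rw [hc, hw]; ring⟩ hB
    · exact ho
  obtain ⟨c', rfl⟩ := hcodd
  -- squares of `u^j b`
  have hsqb : ∀ j : ℤ, u ^ j * b * (u ^ j * b) = u ^ (j * (r + 1)) := by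
    intro j
    calc u ^ j * b * (u ^ j * b) = u ^ j * (b * u ^ j) * b := by group
      _ = u ^ j * u ^ (r * j) * (b * b) := by rw [hswap]; group
      _ = u ^ (j * (r + 1)) := by rw [hb2, mul_one, ← zpow_add]; congr 1; ring
  have hrodd : Odd r := ⟨2 ^ (m + 1) * (2 * c' + 1) - 1, by
    rw [show r = 2 ^ (m + 1 + 1) * (2 * c' + 1) - 1 by linarith]; ring⟩
  let S₀ : Subgroup (S : Subgroup G) :=
    { carrier := {g | ∃ i : ℤ, g = u ^ (2 * i) ∨ g = u ^ (2 * i) * b}
      mul_mem' := by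
        rintro _ _ ⟨i, rfl | rfl⟩ ⟨j, rfl | rfl⟩
        · exact ⟨i + j, Or.inl (by rw [← zpow_add]; congr 1; ring)⟩
        · exact ⟨i + j, Or.inr (by rw [← mul_assoc, ← zpow_add]; congr 2; ring)⟩
        · exact ⟨i + r * j, Or.inr (by rw [mul_assoc, hswap, ← mul_assoc, ← zpow_add]; congr 2; ring)⟩
        · refine ⟨i + r * j, Or.inl ?_⟩
          calc u ^ (2 * i) * b * (u ^ (2 * j) * b) = u ^ (2 * i) * (b * u ^ (2 * j)) * b := by group
            _ = u ^ (2 * i) * u ^ (r * (2 * j)) * (b * b) := by rw [hswap]; group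
            _ = _ := by rw [hb2, mul_one, ← zpow_add]; congr 1; ring
      one_mem' := ⟨0, Or.inl (by simp)⟩
      inv_mem' := by
        rintro _ ⟨i, rfl | rfl⟩
        · exact ⟨-i, Or.inl (by rw [← zpow_neg]; congr 1; ring)⟩
        · refine ⟨-(r * i), Or.inr ?_⟩
          rw [mul_inv_rev, inv_eq_of_mul_eq_one_right hb2, ← zpow_neg, hswap]
          congr 2; ring }
  have hS₀mem : ∀ j : ℤ, (u ^ j ∈ S₀ ↔ Even j) ∧ (u ^ j * b ∈ S₀ ↔ Even j) := by
    intro j
    have hpar : ∀ i : ℤ, u ^ j = u ^ (2 * i) → Even j := by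
      intro i e
      rw [← mul_inv_eq_one, ← zpow_neg, ← zpow_add, hdvd] at e
      obtain ⟨w, hw⟩ := e
      exact ⟨i + 2 ^ (m + 2) * w, by rw [pow_succ 2 (m + 2)] at hw; linarith⟩
    refine ⟨⟨?_, ?_⟩, ⟨?_, ?_⟩⟩
    · rintro ⟨i, e | e⟩
      · exact hpar i e
      · refine absurd ?_ hbu
        rw [show b = (u ^ (2 * i))⁻¹ * u ^ j by rw [e]; group]
        exact mul_mem (inv_mem (Subgroup.zpow_mem _ (Subgroup.mem_zpowers u) _))
          (Subgroup.zpow_mem _ (Subgroup.mem_zpowers u) _)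
    · rintro ⟨i, rfl⟩; exact ⟨i, Or.inl (by congr 1; ring)⟩
    · rintro ⟨i, e | e⟩
      · refine absurd ?_ hbu
        rw [show b = (u ^ j)⁻¹ * u ^ (2 * i) by rw [← e]; group]
        exact mul_mem (inv_mem (Subgroup.zpow_mem _ (Subgroup.mem_zpowers u) _))
          (Subgroup.zpow_mem _ (Subgroup.mem_zpowers u) _)
      · exact hpar i (mul_right_cancel e)
    · rintro ⟨i, rfl⟩; exact ⟨i, Or.inr (by congr 2; ring)⟩
  have hidx : S₀.index = 2 := by
    rw [Subgroup.index_eq_two_iff]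
    refine ⟨u, fun g => ?_⟩
    rcases hform g with ⟨j, rfl⟩ | ⟨j, rfl⟩
    · rw [← zpow_add_one, (hS₀mem _).1, (hS₀mem _).1, Int.even_add_one]
      rcases Int.even_or_odd j with he | ho
      · exact Or.inr ⟨he, fun h => h he⟩
      · exact Or.inl ⟨Int.not_even_iff_odd.2 ho, Int.not_even_iff_odd.2 ho⟩
    · have e : u ^ j * b * u = u ^ (j + r) * b := by
        rw [mul_assoc, show b * u = u ^ r * b by simpa using hswap 1, ← mul_assoc, ← zpow_add]
      rw [e, (hS₀mem _).2, (hS₀mem _).2, Int.even_add]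
      rcases Int.even_or_odd j with he | ho
      · exact Or.inr ⟨he, fun h => Int.not_even_iff_odd.2 hrodd (h.1 he)⟩
      · exact Or.inl ⟨⟨fun h => absurd h (Int.not_even_iff_odd.2 ho),
          fun h => absurd h (Int.not_even_iff_odd.2 hrodd)⟩, Int.not_even_iff_odd.2 ho⟩
  set v : (S : Subgroup G) := u * b with hv
  have hv2 : v * v = zS := by
    have := hsqb 1
    rw [zpow_one, one_mul] at this
    rw [hv, this, hzS, ← mul_inv_eq_one, ← zpow_neg, ← zpow_add, hdvd]
    exact ⟨c', by rw [show r = 2 ^ (m + 1 + 1) * (2 * c' + 1) - 1 by linarith]; ring⟩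
  have hz1 : zS ≠ 1 := fun e => by rw [e] at hzo; simp at hzo
  have hzz : zS * zS = 1 := by
    have := pow_orderOf_eq_one zS
    rw [← Subgroup.orderOf_coe, hzo, pow_two] at this
    exact this
  have hinvol : ∀ g : (S : Subgroup G), g * g = 1 → g ∈ S₀ := by
    intro g hg
    rcases hform g with ⟨j, rfl⟩ | ⟨j, rfl⟩
    · rw [(hS₀mem j).1]
      rw [← zpow_add, hdvd] at hg
      obtain ⟨w, hw⟩ := hg
      exact ⟨2 ^ (m + 1) * w, by rw [pow_succ] at hw; rw [show (2:ℤ) ^ (m + 1 + 1) = 2 ^ (m + 1) * 2 from pow_succ _ _] at hw; linarith⟩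
    · rw [(hS₀mem j).2]
      rw [hsqb, hdvd] at hg
      obtain ⟨w, hw⟩ := hg
      rw [show r + 1 = 2 ^ (m + 1 + 1) * (2 * c' + 1) by linarith,
        show (2 : ℤ) ^ (m + 1 + 2) = 2 ^ (m + 1 + 1) * 2 from pow_succ _ _] at hw
      have h0 : j * (2 * c' + 1) = 2 * w :=
        mul_left_cancel₀ (pow_ne_zero (m + 1 + 1) two_ne_zero : (2 : ℤ) ^ (m + 1 + 1) ≠ 0) (by linarith)
      exact ⟨w - j * c', by linarith⟩
  obtain ⟨K, hK⟩ := exists_index_two_of_transfer S S₀ hidx (v : G) (by
    intro g r' hm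
    set w : (S : Subgroup G) := ⟨g⁻¹ * (v : G) ^ r' * g, hm⟩ with hwdef
    rcases Nat.even_or_odd' r' with ⟨i, rfl | rfl⟩
    · refine iff_of_true (hinvol w (Subtype.ext ?_)) (even_two_mul i)
      show g⁻¹ * (v : G) ^ (2 * i) * g * (g⁻¹ * (v : G) ^ (2 * i) * g) = 1
      have e : ((v : G) ^ 2) ^ 2 = 1 := by
        rw [pow_two (v : G), ← Subgroup.coe_mul, hv2, pow_two, ← Subgroup.coe_mul, hzz, Subgroup.coe_one]
      rw [show g⁻¹ * (v : G) ^ (2 * i) * g * (g⁻¹ * (v : G) ^ (2 * i) * g) =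
        g⁻¹ * (((v : G) ^ (2 * i)) * ((v : G) ^ (2 * i))) * g by group, ← pow_two,
        pow_mul, pow_right_comm, e, one_pow]
      group
    · refine iff_of_false (fun hmem => ?_) (by simp [parity_simps])
      have hw2 : (w : G) * w = g⁻¹ * zS * g := by
        show g⁻¹ * (v : G) ^ (2 * i + 1) * g * (g⁻¹ * (v : G) ^ (2 * i + 1) * g) = _
        rw [show g⁻¹ * (v : G) ^ (2 * i + 1) * g * (g⁻¹ * (v : G) ^ (2 * i + 1) * g) =
          g⁻¹ * (((v : G) ^ (2 * i + 1)) * ((v : G) ^ (2 * i + 1))) * g by group, ← pow_two,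
          ← pow_mul, show (2 * i + 1) * 2 = 2 * (2 * i + 1) by ring, pow_mul, pow_two (v : G),
          ← Subgroup.coe_mul, hv2, pow_add, pow_one, pow_mul, pow_two, ← Subgroup.coe_mul, hzz,
          Subgroup.coe_one, one_pow, one_mul]
      obtain ⟨j, hj | hj⟩ := hmem
      swap
      · have e : w * w = 1 := by
          rw [hj, hsqb, hdvd]
          exact ⟨j * (2 * c' + 1), by rw [show r + 1 = 2 ^ (m + 1 + 1) * (2 * c' + 1) by linarith]; ring⟩
        rw [← Subgroup.coe_mul, e, Subgroup.coe_one] at hw2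
        apply hz1
        apply Subtype.ext
        calc (zS : G) = g * (g⁻¹ * zS * g) * g⁻¹ := by group
          _ = 1 := by rw [← hw2]; group
      have e4 : w * w = zS := by
        have h4w : w * w * (w * w) = 1 := by
          apply Subtype.ext
          rw [Subgroup.coe_mul, Subgroup.coe_mul, hw2, Subgroup.coe_one]
          calc g⁻¹ * (zS : G) * g * (g⁻¹ * zS * g) = g⁻¹ * ((zS : G) * zS) * g := by group
            _ = 1 := by rw [← Subgroup.coe_mul, hzz, Subgroup.coe_one]; group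
        have hne : w * w ≠ 1 := by
          intro e
          rw [← Subgroup.coe_mul, e, Subgroup.coe_one] at hw2
          apply hz1
          apply Subtype.ext
          calc (zS : G) = g * (g⁻¹ * zS * g) * g⁻¹ := by group
            _ = 1 := by rw [← hw2]; group
        rw [hj, ← zpow_add, ← zpow_add, hdvd] at h4w
        rw [hj, ← zpow_add] at hne ⊢
        rw [Ne, hdvd] at hne
        obtain ⟨t', ht'⟩ := h4w
        rw [hzS, ← mul_inv_eq_one, ← zpow_neg, ← zpow_add, hdvd]
        rw [show (2 : ℤ) ^ (m + 1 + 2) = 2 * 2 ^ (m + 1 + 1) by ring] at ht' hne ⊢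
        have h5 : 2 * j + 2 * j = 2 ^ (m + 1 + 1) * t' := by linarith
        rcases Int.even_or_odd' t' with ⟨e', rfl | rfl⟩
        · exact absurd ⟨e', by linarith⟩ hne
        · exact ⟨e', by linarith⟩
      rw [← Subgroup.coe_mul, e4] at hw2
      have hgS : g ∈ (S : Subgroup G) := by
        rw [← hS, Subgroup.mem_centralizer_singleton_iff]
        calc g * (zS : G) = g * (g⁻¹ * zS * g) := by rw [← hw2]
          _ = (zS : G) * g := by group
      have hpow : (⟨g, hgS⟩ : (S : Subgroup G))⁻¹ * v ^ (2 * i + 1) * ⟨g, hgS⟩ ∈ S₀ := by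
        convert (show w ∈ S₀ from ⟨j, Or.inl hj⟩) using 1
        exact Subtype.ext (by simp [hwdef])
      haveI : S₀.Normal := Subgroup.normal_of_index_eq_two hidx
      have h6 := (inferInstance : S₀.Normal).conj_mem _ hpow ⟨g, hgS⟩
      have h7 : v ^ (2 * i + 1) ∈ S₀ := by simpa [mul_assoc] using h6
      rw [pow_succ, pow_mul, pow_two, hv2] at h7
      have h8 : v ∈ S₀ := by
        have := S₀.mul_mem (S₀.inv_mem (S₀.pow_mem (hinvol zS hzz) i)) h7
        simpa using this
      have h9 := (hS₀mem 1).2.1 (by rwa [zpow_one])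
      exact absurd h9 (by decide))
  have := hC.simple
  rcases (Subgroup.normal_of_index_eq_two hK).eq_bot_or_eq_top with e | e
  · rw [e, Subgroup.index_bot] at hK
    have h1 : IsPGroup 2 G := IsPGroup.of_card (n := 1) (by rw [hK]; rfl)
    have := h1.isNilpotent
    exact hC.notSolvable inferInstance
  · rw [e, Subgroup.index_top] at hK
    omega

end CfsgLib.PrimeElementOrders
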