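import Cfsg.Agent.Lib.PrimeElementOrders.Basic
import Cfsg.Agent.Lib.Cores.FPF
import Cfsg.Agent.Lib.Cores.PCore
import Cfsg.Agent.Lib.Hall.Existence
import Cfsg.Agent.S0183
import Cfsg.Prelude.Def_Amalgam

/-!
Maximal 2-local subgroups of a group in which element orders are powers of two or primes other than five and
2-locals involve at most two primes.
-/

set_option autoImplicit false

open Cfsg

namespace CfsgLib.PrimeElementOrders

variable {G : Type*} [Group G]

/-- The standing hypotheses. -/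
structure Ctx (G : Type*) [Group G] : Prop where
  eo : EO G
  simple : IsSimpleGroup G
  notSolvable : ¬ Group.IsSolvable G
  hloc : ∀ T : Subgroup G, IsPGroup 2 T → T ≠ ⊥ →
    (Nat.card (Subgroup.normalizer (T : Set G))).primeFactors.card ≤ 2

/-- `M` has a non-trivial normal 2-subgroup. -/
def IsLoc (M : Subgroup G) : Prop :=
  ∃ T : Subgroup G, IsPGroup 2 T ∧ T ≠ ⊥ ∧ T ≤ M ∧ M ≤ Subgroup.normalizer (T : Set G)

/-- `M` is maximal among the subgroups with a non-trivial normal 2-subgroup. -/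
def IsMaxLoc (M : Subgroup G) : Prop := Maximal IsLoc M

theorem isLoc_normalizer {T : Subgroup G} (hT : IsPGroup 2 T) (h1 : T ≠ ⊥) :
    IsLoc (Subgroup.normalizer (T : Set G)) :=
  ⟨T, hT, h1, Subgroup.le_normalizer, le_rfl⟩

variable [Finite G]

theorem exists_maxLoc {M : Subgroup G} (h : IsLoc M) : ∃ L, IsMaxLoc L ∧ M ≤ L := by
  obtain ⟨L, hle, hL⟩ := (Set.toFinite {L : Subgroup G | IsLoc L}).exists_le_maximal h
  exact ⟨L, hL, hle⟩

theorem exists_maxLoc_normalizer {T : Subgroup G} (hT : IsPGroup 2 T) (h1 : T ≠ ⊥) :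
    ∃ L, IsMaxLoc L ∧ Subgroup.normalizer (T : Set G) ≤ L :=
  exists_maxLoc (isLoc_normalizer hT h1)

omit [Finite G] in
theorem isPGroup_pCoreOf (M : Subgroup G) : IsPGroup 2 (pCoreOf 2 M) :=
  (Cores.isPGroup_pCore 2 M).map _

omit [Finite G] in
theorem pCoreOf_le (M : Subgroup G) : pCoreOf 2 M ≤ M := Subgroup.map_subtype_le _

omit [Finite G] in
theorem le_normalizer_pCoreOf (M : Subgroup G) :
    M ≤ Subgroup.normalizer (pCoreOf 2 M : Set G) := by
  intro m hm
  rw [Subgroup.mem_normalizer_iff]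
  intro a
  have key : ∀ m ∈ M, ∀ a ∈ pCoreOf 2 M, m * a * m⁻¹ ∈ pCoreOf 2 M := by
    rintro m hm _ ⟨b, hb, rfl⟩
    exact ⟨⟨m, hm⟩ * b * ⟨m, hm⟩⁻¹, (inferInstance : (pCore 2 M).Normal).conj_mem b hb _, rfl⟩
  refine ⟨key m hm a, fun h => ?_⟩
  have := key m⁻¹ (M.inv_mem hm) _ h
  simpa [mul_assoc] using this

omit [Finite G] in
theorem le_pCoreOf {M T : Subgroup G} (hT : IsPGroup 2 T) (hTM : T ≤ M)
    (hN : M ≤ Subgroup.normalizer (T : Set G)) : T ≤ pCoreOf 2 M := by
  have : (T.subgroupOf M).Normal := Subgroup.normal_subgroupOf_of_le_normalizer hN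
  intro t ht
  exact ⟨⟨t, hTM ht⟩, Cores.le_pCore (N := T.subgroupOf M)
    (hT.comap_of_injective M.subtype M.subtype_injective) ht, rfl⟩

omit [Finite G] in
theorem IsMaxLoc.core_ne_bot {M : Subgroup G} (h : IsMaxLoc M) : pCoreOf 2 M ≠ ⊥ := by
  obtain ⟨T, hT, h1, hTM, hN⟩ := h.prop
  exact fun e => h1 (le_bot_iff.1 (e ▸ le_pCoreOf hT hTM hN))

omit [Finite G] in
theorem IsMaxLoc.normalizer_eq {M X : Subgroup G} (h : IsMaxLoc M) (hX : IsPGroup 2 X)
    (h1 : X ≠ ⊥) (hN : M ≤ Subgroup.normalizer (X : Set G)) :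
    Subgroup.normalizer (X : Set G) = M :=
  le_antisymm (h.le_of_ge (isLoc_normalizer hX h1) hN) hN

omit [Finite G] in
theorem IsMaxLoc.normalizer_core {M : Subgroup G} (h : IsMaxLoc M) :
    Subgroup.normalizer (pCoreOf 2 M : Set G) = M :=
  h.normalizer_eq (isPGroup_pCoreOf M) h.core_ne_bot (le_normalizer_pCoreOf M)

omit [Finite G] in
/-- Conjugation by an element normalising `M` fixes the core. -/
theorem IsMaxLoc.map_conj {M : Subgroup G} (h : IsMaxLoc M) (g : G) :
    IsMaxLoc (M.map (MulAut.conj g).toMonoidHom) := by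
  have key : ∀ {M : Subgroup G} (g : G), IsLoc M → IsLoc (M.map (MulAut.conj g).toMonoidHom) := by
    rintro M g ⟨T, hT, h1, hTM, hN⟩
    refine ⟨T.map (MulAut.conj g).toMonoidHom, hT.map _, ?_, Subgroup.map_mono hTM,
      (Subgroup.map_mono hN).trans ?_⟩
    · rwa [Ne, Subgroup.map_eq_bot_iff_of_injective _ (MulAut.conj g).injective]
    · exact Subgroup.le_normalizer_map _
  refine ⟨key g h.prop, fun L hL hle => ?_⟩
  have h2 : M ≤ L.map (MulAut.conj g⁻¹).toMonoidHom := by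
    intro m hm
    exact ⟨g * m * g⁻¹, hle ⟨m, hm, rfl⟩, by simp [mul_assoc]⟩
  intro l hl
  have h3 : g⁻¹ * l * g⁻¹⁻¹ ∈ M := h.le_of_ge (key g⁻¹ hL) h2 ⟨l, hl, rfl⟩
  exact ⟨_, h3, by simp [mul_assoc]⟩

variable (hC : Ctx G)

include hC

theorem Ctx.ne_top_of_isLoc {M : Subgroup G} (h : IsLoc M) : M ≠ ⊤ := by
  obtain ⟨T, hT, h1, -, hN⟩ := h
  rintro rfl
  have := hC.simple
  have hn : T.Normal := Subgroup.normalizer_eq_top_iff.1 (top_le_iff.1 hN)
  rcases hn.eq_bot_or_eq_top with h | h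
  · exact h1 h
  · subst h
    have hG : IsPGroup 2 G := hT.of_equiv Subgroup.topEquiv
    have := hG.isNilpotent
    exact hC.notSolvable inferInstance

theorem Ctx.primeFactors_loc {M : Subgroup G} (h : IsLoc M) :
    (Nat.card M).primeFactors.card ≤ 2 := by
  obtain ⟨T, hT, h1, -, hN⟩ := h
  exact (Finset.card_le_card (Nat.primeFactors_mono (Subgroup.card_dvd_of_le hN)
    Nat.card_pos.ne')).trans (hC.hloc T hT h1)

theorem Ctx.two_dvd : 2 ∣ Nat.card G := by
  by_contra h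
  refine hC.notSolvable (Cfsg.Agent.S0183.result (Nat.odd_iff.2 (by omega)) fun g hg => ?_)
  have hp : ∀ a : G, a ≠ 1 → (orderOf a).Prime := fun a ha => by
    rcases hC.eo a ha with ⟨k, hk⟩ | ⟨hp, -⟩
    · exact absurd ((two_dvd_orderOf ha hk).trans (orderOf_dvd_natCard a)) h
    · exact hp
  have : Fact (orderOf g).Prime := ⟨hp g hg⟩
  have hP : IsPGroup (orderOf g) (Subgroup.centralizer ({g} : Set G)) := by
    intro c
    by_cases hc : (c : G) = 1
    · exact ⟨0, Subtype.ext (by simpa using hc)⟩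
    refine ⟨1, Subtype.ext ?_⟩
    have : orderOf (c : G) = orderOf g := by
      by_contra hne
      exact hC.eo.not_commute (hp _ hc) (hp g hg) hne dvd_rfl dvd_rfl
        (Subgroup.mem_centralizer_singleton_iff.1 c.2)
    rw [SubgroupClass.coe_pow, pow_one, ← this, pow_orderOf_eq_one, Subgroup.coe_one]
  exact hP.isNilpotent

end CfsgLib.PrimeElementOrders
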