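import Cfsg.Agent.Lib.PrimeElementOrders.Local
import Mathlib.RingTheory.IntegralDomain

/-!
Structure of a maximal 2-local subgroup: `D.Z_q` or `D.(Z_q ⋊ Z_{2^k})`.
-/

set_option autoImplicit false

open Cfsg

namespace CfsgLib.PrimeElementOrders

variable {G : Type*} [Group G]

/-- A maximal 2-local `M` with `M/O₂(M) ≅ Z_q ⋊ Z_{2^k}`, `k ≥ 1`; `T` is a Sylow 2-subgroup of `M`. -/
structure Local1 (M : Subgroup G) (q : ℕ) (x s : G) (T : Subgroup G) (k : ℕ) : Prop where
  maxLoc : IsMaxLoc M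
  hq : q.Prime
  q_ne_two : q ≠ 2
  q_ne_five : q ≠ 5
  x_mem : x ∈ M
  orderOf_x : orderOf x = q
  T_le : T ≤ M
  T_two : IsPGroup 2 T
  T_max : ∀ R : Subgroup G, IsPGroup 2 R → T ≤ R → R ≤ M → R = T
  core_le : pCoreOf 2 M ≤ T
  one_le : 1 ≤ k
  s_mem : s ∈ T
  s_pow : s ^ 2 ^ k ∈ pCoreOf 2 M
  s_dvd : ∀ i : ℕ, s ^ i ∈ pCoreOf 2 M → 2 ^ k ∣ i
  gen : ∀ τ ∈ T, ∃ i : ℕ, (s ^ i)⁻¹ * τ ∈ pCoreOf 2 M
  k_dvd : 2 ^ k ∣ q - 1
  fpf : ∀ a ∈ pCoreOf 2 M, Commute a x → a = 1
  key : ∀ τ ∈ T, τ ∉ pCoreOf 2 M → ∀ a ∈ pCoreOf 2 M, Commute a τ →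
    Commute a (x * τ * x⁻¹) → a = 1
  cent : Subgroup.centralizer (pCoreOf 2 M : Set G) ≤ pCoreOf 2 M
  invol : ∃ τ ∈ M, τ ∉ pCoreOf 2 M ∧ orderOf τ = 2

variable [Finite G]

theorem two_dvd_of_mem {T : Subgroup G} (hT : IsPGroup 2 T) {a : G} (ha : a ∈ T) (h1 : a ≠ 1) :
    2 ∣ orderOf a := by
  obtain ⟨k, hk⟩ := (IsPGroup.iff_orderOf.1 hT) ⟨a, ha⟩
  rw [Subgroup.orderOf_mk] at hk
  exact two_dvd_orderOf h1 hk

omit [Finite G] in
theorem le_normalizer_centralizer {M D : Subgroup G} (h : M ≤ Subgroup.normalizer (D : Set G)) :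
    M ≤ Subgroup.normalizer (Subgroup.centralizer (D : Set G) : Set G) := by
  have key : ∀ m ∈ M, ∀ a ∈ Subgroup.centralizer (D : Set G),
      m * a * m⁻¹ ∈ Subgroup.centralizer (D : Set G) := by
    intro m hm a ha d hd
    have h1 : m⁻¹ * d * m ∈ D :=
      (Subgroup.mem_normalizer_iff''.1 (h hm) d).1 hd
    have h2 := ha _ h1
    calc d * (m * a * m⁻¹) = m * ((m⁻¹ * d * m) * a) * m⁻¹ := by group
      _ = m * (a * (m⁻¹ * d * m)) * m⁻¹ := by rw [h2]
      _ = m * a * m⁻¹ * d := by group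
  intro m hm
  rw [Subgroup.mem_normalizer_iff]
  refine fun a => ⟨key m hm a, fun h => ?_⟩
  have := key m⁻¹ (M.inv_mem hm) _ h
  simpa [mul_assoc] using this

theorem Ctx.centralizer_core_le (hC : Ctx G) {M : Subgroup G} (hM : IsMaxLoc M) :
    Subgroup.centralizer (pCoreOf 2 M : Set G) ≤ pCoreOf 2 M := by
  set D := pCoreOf 2 M with hD
  obtain ⟨⟨a, ha⟩, hne⟩ := Subgroup.ne_bot_iff_exists_ne_one.1 hM.core_ne_bot
  have ha1 : a ≠ 1 := fun e => hne (Subtype.ext e)
  refine le_pCoreOf ?_ ?_ (le_normalizer_centralizer (le_normalizer_pCoreOf M))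
  · refine IsPGroup.to_le (hC.eo.isPGroup_centralizer (two_dvd_of_mem (isPGroup_pCoreOf M) ha ha1)) ?_
    exact Subgroup.centralizer_le (Set.singleton_subset_iff.2 ha)
  · exact (Subgroup.centralizer_le_normalizer _).trans (le_of_eq hM.normalizer_core)

/-- The dichotomy for maximal 2-locals. -/
theorem Ctx.structure_maxLoc (hC : Ctx G) {M T : Subgroup G} (hM : IsMaxLoc M) (hTM : T ≤ M)
    (hT : IsPGroup 2 T) (hmax : ∀ R : Subgroup G, IsPGroup 2 R → T ≤ R → R ≤ M → R = T) :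
    (T = pCoreOf 2 M ∧ (∀ R : Subgroup G, IsPGroup 2 R → R ≤ M → R ≤ pCoreOf 2 M) ∧
      (M = pCoreOf 2 M ∨ ∃ q x, Nat.Prime q ∧ q ≠ 2 ∧ x ∈ M ∧ orderOf x = q ∧
        Nat.card M = Nat.card (pCoreOf 2 M) * q)) ∨
      ∃ q x s k, Local1 M q x s T k := by
  classical
  set D := pCoreOf 2 M with hDdef
  have hDM : D ≤ M := pCoreOf_le M
  have hD2 : IsPGroup 2 D := isPGroup_pCoreOf M
  have hDT : D ≤ T := by
    have h1 : IsPGroup 2 ↥(T ⊔ D) := hT.to_sup_of_normal_right' hD2
      (hTM.trans (le_normalizer_pCoreOf M))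
    exact le_sup_right.trans (hmax _ h1 le_sup_left (sup_le hTM hDM)).le
  obtain ⟨⟨a₀, ha₀⟩, hne₀⟩ := Subgroup.ne_bot_iff_exists_ne_one.1 hM.core_ne_bot
  have ha₀1 : a₀ ≠ 1 := fun e => hne₀ (Subtype.ext e)
  let π : M →* M ⧸ pCore 2 M := QuotientGroup.mk' _
  have hπ : Function.Surjective π := QuotientGroup.mk'_surjective _
  have hπD : ∀ m : M, π m = 1 ↔ (m : G) ∈ D := by
    intro m
    constructor
    · exact fun h => ⟨m, (QuotientGroup.eq_one_iff m).1 h, rfl⟩
    · rintro ⟨b, hb, e⟩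
      exact (QuotientGroup.eq_one_iff m).2 (M.subtype_injective e ▸ hb)
  have hEO : EO (M ⧸ pCore 2 M) := (hC.eo.subgroup M).of_surjective π hπ
  have hO : pCore 2 (M ⧸ pCore 2 M) = ⊥ := Cores.pCore_quotient_pCore 2 M
  have hcard : Nat.card M = Nat.card (M ⧸ pCore 2 M) * Nat.card D := by
    rw [Subgroup.card_eq_card_quotient_mul_card_subgroup (pCore 2 M), hDdef, pCoreOf,
      Subgroup.card_map_of_injective M.subtype_injective]
  have h2M : 2 ∣ Nat.card M :=
    (two_dvd_of_mem hD2 ha₀ ha₀1).trans (Subgroup.orderOf_dvd_natCard M (hDM ha₀))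
  rcases subsingleton_or_nontrivial (M ⧸ pCore 2 M) with hsub | hnt
  · have hMD : M = D := le_antisymm (fun m hm => (hπD ⟨m, hm⟩).1 (Subsingleton.elim _ _)) hDM
    exact Or.inl ⟨le_antisymm (hTM.trans hMD.le) hDT, fun R _ hR => hR.trans hMD.le, Or.inl hMD⟩
  have hsolvM : Group.IsSolvable M :=
    isSolvable_of_primeFactors_le (hC.primeFactors_loc hM.prop)
  have : Group.IsSolvable (M ⧸ pCore 2 M) := solvable_of_surjective hπ
  obtain ⟨q, hq, hNne⟩ := CfsgLib.Hall.exists_pCore_ne_bot (G := M ⧸ pCore 2 M)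
  have hq2 : q ≠ 2 := fun e => hNne (e ▸ hO)
  have hqFact : Fact q.Prime := ⟨hq⟩
  set N := pCore q (M ⧸ pCore 2 M) with hN
  have hqdvdN : q ∣ Nat.card N := by
    have : Nontrivial N := (Subgroup.nontrivial_iff_ne_bot N).2 hNne
    obtain ⟨n, hn, hcardN⟩ := (Cores.isPGroup_pCore q _).nontrivial_iff_card.1 this
    exact hcardN ▸ dvd_pow_self q hn.ne'
  have hqM : q ∣ Nat.card M :=
    (hqdvdN.trans (Subgroup.card_subgroup_dvd_card N)).trans (hcard ▸ dvd_mul_right _ _)
  -- only the primes two and `q`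
  have hprimes : ∀ p : ℕ, p.Prime → p ∣ Nat.card M → p = 2 ∨ p = q := by
    intro p hp hd
    by_contra! hne
    have h3 : ({2, q, p} : Finset ℕ) ⊆ (Nat.card M).primeFactors := by
      intro r hr
      simp only [Finset.mem_insert, Finset.mem_singleton] at hr
      rw [Nat.mem_primeFactors]
      rcases hr with rfl | rfl | rfl
      · exact ⟨Nat.prime_two, h2M, Nat.card_pos.ne'⟩
      · exact ⟨hq, hqM, Nat.card_pos.ne'⟩
      · exact ⟨hp, hd, Nat.card_pos.ne'⟩
    have h4 := (Finset.card_le_card h3).trans (hC.primeFactors_loc hM.prop)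
    rw [Finset.card_insert_of_notMem (by simp [Ne.symm hq2, Ne.symm hne.1]),
      Finset.card_insert_of_notMem (by simp [Ne.symm hne.2]), Finset.card_singleton] at h4
    omega
  -- fixed-point-free action on the core
  have hfpf : ∀ g : G, q ∣ orderOf g → ∀ a ∈ D, Commute a g → a = 1 := by
    intro g hg a ha hc
    by_contra h1
    exact hC.eo.not_commute Nat.prime_two hq (Ne.symm hq2) (two_dvd_of_mem hD2 ha h1) hg hc
  -- the Sylow `q`-subgroup has order `q`
  let Q : Sylow q M := default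
  set QG : Subgroup G := (Q : Subgroup M).map M.subtype with hQG
  have hQM : QG ≤ M := Subgroup.map_subtype_le _
  have hQp : IsPGroup q QG := Q.2.map _
  have hQord : ∀ g ∈ QG, g ≠ 1 → orderOf g = q := by
    intro g hg h1
    obtain ⟨n, hn⟩ := (IsPGroup.iff_orderOf.1 hQp) ⟨g, hg⟩
    rw [Subgroup.orderOf_mk] at hn
    rcases n with _ | n
    · exact absurd (orderOf_eq_one_iff.1 (by simpa using hn)) h1
    · exact hC.eo.orderOf_eq hq hq2 (hn ▸ dvd_pow_self q (Nat.succ_ne_zero n))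
  have hQfpf : ∀ g ∈ QG, g ≠ 1 → D ⊓ Subgroup.centralizer ({g} : Set G) = ⊥ := by
    intro g hg h1
    rw [Subgroup.eq_bot_iff_forall]
    rintro a ⟨ha, hc⟩
    exact hfpf g (hQord g hg h1 ▸ dvd_rfl) a ha (Subgroup.mem_centralizer_singleton_iff.1 hc)
  have hQne : (Q : Subgroup M) ≠ ⊥ := Q.ne_bot_of_dvd_card hqM
  have hUnique := Cores.uniqueOrderP_of_fpf hQp hM.core_ne_bot
    (hQM.trans (le_normalizer_pCoreOf M)) hQfpf
  have hQcard : Nat.card (Q : Subgroup M) = q := by
    rw [← Subgroup.card_map_of_injective M.subtype_injective]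
    obtain ⟨x, hx1⟩ : ∃ x : QG, x ≠ 1 := by
      refine Subgroup.ne_bot_iff_exists_ne_one.1 ?_
      rwa [hQG, Ne, Subgroup.map_eq_bot_iff_of_injective _ M.subtype_injective]
    have hxo : orderOf x = q := by
      rw [← Subgroup.orderOf_coe]; exact hQord _ x.2 (by simpa using hx1)
    have : Subgroup.zpowers x = ⊤ := by
      rw [Subgroup.eq_top_iff']
      intro y
      by_cases hy : y = 1
      · exact hy ▸ one_mem _
      exact hUnique x y hxo (by rw [← Subgroup.orderOf_coe]; exact hQord _ y.2 (by simpa using hy))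
    exact Subgroup.card_top.symm.trans ((congrArg (fun H : Subgroup QG => Nat.card H) this.symm).trans
      ((Nat.card_zpowers x).trans hxo))
  -- the normal subgroup of order `q` of the quotient
  have hqsq : ∀ n : ℕ, q ^ n ∣ Nat.card M → n ≤ 1 := by
    intro n hn
    have h1 := Q.card_eq_multiplicity
    rw [hQcard] at h1
    have h2 : (Nat.card M).factorization q = 1 :=
      (Nat.pow_right_injective hq.two_le (by simpa using h1)).symm
    rw [← h2]
    exact (hq.pow_dvd_iff_le_factorization Nat.card_pos.ne').1 hn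
  have hNcard : Nat.card N = q := by
    obtain ⟨n, hn⟩ := IsPGroup.iff_card.1 (Cores.isPGroup_pCore q (M ⧸ pCore 2 M))
    rw [← hN] at hn
    have h1 := hqsq n ((hn ▸ Subgroup.card_subgroup_dvd_card N).trans (hcard ▸ dvd_mul_right _ _))
    have h2 : n ≠ 0 := fun e => hNne (Subgroup.eq_bot_of_card_eq N (by rw [hn, e, pow_zero]))
    rw [hn, show n = 1 by omega, pow_one]
  obtain ⟨xb, hxb⟩ := exists_prime_orderOf_dvd_card' (G := N) q hqdvdN
  obtain ⟨xm, hxm⟩ := hπ (xb : M ⧸ pCore 2 M)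
  have hxo : orderOf (xm : G) = q := by
    refine hC.eo.orderOf_eq hq hq2 ?_
    rw [Subgroup.orderOf_coe, ← hxb, ← Subgroup.orderOf_coe xb, ← hxm]
    exact orderOf_map_dvd π xm
  have hNz : ∀ n ∈ N, n ∈ Subgroup.zpowers (xb : M ⧸ pCore 2 M) := by
    intro n hn
    have h1 : Subgroup.zpowers (xb : M ⧸ pCore 2 M) = N := by
      refine Subgroup.eq_of_le_of_card_ge (Subgroup.zpowers_le.2 xb.2) ?_
      rw [Nat.card_zpowers, Subgroup.orderOf_coe, hxb, hNcard]
    rwa [h1]
  -- `φ` is the conjugation action on `N`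
  let φ : M →* MulAut N := MulAut.conjNormal.comp π
  have hφ : ∀ τ : M, (τ : G) ∈ T → Commute (π τ) (xb : M ⧸ pCore 2 M) → (τ : G) ∈ D := by
    intro τ hτ hc
    by_contra hnot
    have h1 : π τ ≠ 1 := fun e => hnot ((hπD τ).1 e)
    obtain ⟨n, hn⟩ := (IsPGroup.iff_orderOf.1 hT) ⟨(τ : G), hτ⟩
    rw [Subgroup.orderOf_mk, Subgroup.orderOf_coe] at hn
    obtain ⟨j, -, hj⟩ := (Nat.dvd_prime_pow Nat.prime_two).1 (hn ▸ orderOf_map_dvd π τ)
    exact hEO.not_commute Nat.prime_two hq (Ne.symm hq2) (two_dvd_orderOf h1 hj)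
      (by rw [Subgroup.orderOf_coe, hxb]) hc
  have hφker : ∀ τ : M, (τ : G) ∈ T → (φ τ = 1 ↔ (τ : G) ∈ D) := by
    intro τ hτ
    constructor
    · intro h
      refine hφ τ hτ ?_
      have h1 := congrArg Subtype.val (DFunLike.congr_fun h xb)
      simp only [φ, MonoidHom.comp_apply, MulAut.conjNormal_apply, MulAut.one_apply] at h1
      exact mul_inv_eq_iff_eq_mul.1 h1
    · intro h
      have : π τ = 1 := (hπD τ).2 h
      simp [φ, this]
  by_cases hTD : T = D
  · refine Or.inl ⟨hTD, fun R hR hRM => ?_, Or.inr ⟨q, (xm : G), hq, hq2, xm.2, hxo, ?_⟩⟩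
    · obtain ⟨P, hP⟩ := (hR.comap_of_injective M.subtype M.subtype_injective).exists_le_sylow
      -- `T` is a Sylow subgroup, so `P = D`
      have hTs : IsPGroup 2 (T.subgroupOf M) := hT.comap_of_injective M.subtype M.subtype_injective
      obtain ⟨P', hP'⟩ := hTs.exists_le_sylow
      have h1 : (P' : Subgroup M).map M.subtype = T := hmax _ (P'.2.map _)
        (fun t ht => ⟨⟨t, hTM ht⟩, hP' ht, rfl⟩) (Subgroup.map_subtype_le _)
      have h2 : (P' : Subgroup M) = pCore 2 M := by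
        refine Subgroup.map_injective M.subtype_injective ?_
        rw [h1, hTD]; rfl
      have h3 : (P : Subgroup M) = pCore 2 M := by
        have hn : (P' : Subgroup M).Normal := h2 ▸ inferInstance
        have := Sylow.unique_of_normal P' hn
        rw [Subsingleton.elim P P', h2]
      intro r hr
      exact ⟨⟨r, hRM hr⟩, h3 ▸ hP hr, rfl⟩
    · have h1 : ∀ p : ℕ, p.Prime → p ∣ Nat.card (M ⧸ pCore 2 M) → p = q := by
        intro p hp hd
        rcases hprimes p hp (hd.trans (hcard ▸ dvd_mul_right _ _)) with rfl | h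
        · exfalso
          have : Fact (Nat.Prime 2) := ⟨hp⟩
          obtain ⟨P', hP'⟩ := (hT.comap_of_injective M.subtype M.subtype_injective :
            IsPGroup 2 (T.subgroupOf M)).exists_le_sylow
          have h1 : (P' : Subgroup M).map M.subtype = T := hmax _ (P'.2.map _)
            (fun t ht => ⟨⟨t, hTM ht⟩, hP' ht, rfl⟩) (Subgroup.map_subtype_le _)
          have h2 : (P' : Subgroup M) = pCore 2 M := by
            refine Subgroup.map_injective M.subtype_injective ?_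
            rw [h1, hTD]; rfl
          have h3 := P'.not_dvd_index
          rw [h2, Subgroup.index] at h3
          exact h3 hd
        · exact h
      have h2 : Nat.card (M ⧸ pCore 2 M) = q ^ (Nat.card (M ⧸ pCore 2 M)).primeFactorsList.length :=
        Nat.eq_prime_pow_of_unique_prime_dvd Nat.card_pos.ne' (fun {d} hd hdd => h1 d hd hdd)
      have h3 := hqsq _ (h2 ▸ (hcard ▸ dvd_mul_right _ _))
      have h4 : (Nat.card (M ⧸ pCore 2 M)).primeFactorsList.length ≠ 0 := by
        intro e; rw [e, pow_zero] at h2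
        exact absurd h2 (Finite.one_lt_card).ne'
      rw [hcard, h2, show (Nat.card (M ⧸ pCore 2 M)).primeFactorsList.length = 1 by omega, pow_one,
        mul_comm]
  -- the case `k ≥ 1`
  right
  let TM : Subgroup M := T.subgroupOf M
  have hcyc : IsCyclic (MulAut N) := by
    have : IsCyclic N := isCyclic_of_prime_card hNcard
    have e := IsCyclic.mulAutMulEquiv N
    rw [hNcard] at e
    have : IsCyclic (ZMod q)ˣ := inferInstance
    exact e.isCyclic.2 this
  have hcA : Nat.card (MulAut N) = q - 1 := by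
    have : IsCyclic N := isCyclic_of_prime_card hNcard
    rw [IsCyclic.card_mulAut, hNcard, Nat.totient_prime hq]
  obtain ⟨⟨sφ, hsφ⟩, hgen⟩ := IsCyclic.exists_generator (α := TM.map φ)
  obtain ⟨sm, hsm, rfl⟩ := hsφ
  obtain ⟨k, hk⟩ := IsPGroup.iff_card.1
    ((hT.comap_of_injective M.subtype M.subtype_injective : IsPGroup 2 TM).map φ)
  have hso : orderOf (φ sm) = 2 ^ k := by
    exact (Subgroup.orderOf_mk _ _).symm.trans ((orderOf_eq_card_of_forall_mem_zpowers hgen).trans hk)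
  have hgen' : ∀ τ ∈ T, ∃ i : ℕ, ((sm : G) ^ i)⁻¹ * τ ∈ D := by
    intro τ hτ
    obtain ⟨i, hi⟩ := (mem_powers_iff_mem_zpowers).2
      (hgen ⟨φ ⟨τ, hTM hτ⟩, ⟨⟨τ, hTM hτ⟩, hτ, rfl⟩⟩)
    have hi' : (φ sm) ^ i = φ ⟨τ, hTM hτ⟩ := by
      have := congrArg Subtype.val hi
      simpa using this
    refine ⟨i, ?_⟩
    have h1 := (hφker ((sm ^ i)⁻¹ * ⟨τ, hTM hτ⟩)
      (T.mul_mem (T.inv_mem (by simpa using T.pow_mem hsm i)) hτ)).1
      (by rw [map_mul, map_inv, map_pow, hi', inv_mul_cancel])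
    simpa using h1
  have hk1 : 1 ≤ k := by
    by_contra hk0
    rw [show k = 0 by omega, pow_zero, orderOf_eq_one_iff] at hso
    apply hTD
    refine le_antisymm (fun τ hτ => ?_) hDT
    obtain ⟨i, hi⟩ := hgen' τ hτ
    have h1 : (sm : G) ∈ D := (hφker sm hsm).1 hso
    simpa [mul_assoc] using D.mul_mem (D.pow_mem h1 i) hi
  have hkey : ∀ τ ∈ T, τ ∉ D → ∀ a ∈ D, Commute a τ →
      Commute a ((xm : G) * τ * (xm : G)⁻¹) → a = 1 := by
    intro τ hτ hτD a ha h1 h2
    set τm : M := ⟨τ, hTM hτ⟩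
    set w : M := xm * τm * xm⁻¹ * τm⁻¹ with hw
    refine hfpf (w : G) ?_ a ha ?_
    · have hwN : π w ∈ N := by
        rw [hw, show xm * τm * xm⁻¹ * τm⁻¹ = xm * (τm * xm⁻¹ * τm⁻¹) by group, map_mul, map_mul,
          map_mul, map_inv, map_inv, hxm]
        exact N.mul_mem xb.2 ((inferInstance : N.Normal).conj_mem _ (N.inv_mem xb.2) _)
      have hwne : π w ≠ 1 := by
        intro e
        refine hτD (hφ τm hτ ?_)
        rw [hw, map_mul, map_inv, mul_inv_eq_one, map_mul, map_mul, map_inv, hxm,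
          mul_inv_eq_iff_eq_mul] at e
        exact e.symm
      have h3 : orderOf (π w) = q := by
        have := orderOf_eq_prime (p := q) (x := (⟨π w, hwN⟩ : N))
          (by rw [← hNcard]; exact pow_card_eq_one') (fun e => hwne (congrArg Subtype.val e))
        rwa [← Subgroup.orderOf_coe] at this
      rw [Subgroup.orderOf_coe]
      exact h3 ▸ orderOf_map_dvd π w
    · simpa [hw, τm] using h2.mul_right h1.inv_right
  refine ⟨q, (xm : G), (sm : G), k, hM, hq, hq2, ?_, xm.2, hxo, hTM, hT, hmax, hDT, hk1, hsm, ?_,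
    ?_, hgen', ?_, hfpf (xm : G) (by rw [hxo]), hkey, hC.centralizer_core_le hM, ?_⟩
  · exact fun e => hC.eo.ne_five (xm : G) (hxo.trans e)
  · have : φ (sm ^ 2 ^ k) = 1 := by rw [map_pow, ← hso, pow_orderOf_eq_one]
    simpa using (hφker (sm ^ 2 ^ k) (by simpa using T.pow_mem hsm _)).1 this
  · intro i hi
    rw [← hso]
    refine orderOf_dvd_of_pow_eq_one ?_
    rw [← map_pow]
    exact (hφker (sm ^ i) (by simpa using T.pow_mem hsm _)).2 (by simpa using hi)
  · rw [← hcA, ← hso]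
    exact orderOf_dvd_natCard _
  -- an involution outside the core
  have hswN : π (sm * xm * sm⁻¹) ∈ N := by
    rw [map_mul, map_mul, map_inv, hxm]; exact (inferInstance : N.Normal).conj_mem _ xb.2 _
  let B : Subgroup M := (Subgroup.zpowers (xb : M ⧸ pCore 2 M)).comap π
  have hZB : Subgroup.zpowers xm ≤ B := Subgroup.zpowers_le.2 (by
    rw [Subgroup.mem_comap, hxm]; exact Subgroup.mem_zpowers _)
  have hZZ : (Subgroup.zpowers xm).map (MulAut.conj sm).toMonoidHom ≤ B := by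
    rw [MonoidHom.map_zpowers, Subgroup.zpowers_le]
    exact hNz _ hswN
  have hxmo : orderOf xm = q := by rw [← Subgroup.orderOf_coe]; exact hxo
  have hqZ : ∀ Z : Subgroup M, Z ≤ B → Nat.card Z = q → ∃ P : Sylow q B, (P : Subgroup B) = Z.subgroupOf B := by
    intro Z hZ hZc
    have hp : IsPGroup q (Z.subgroupOf B) := IsPGroup.of_card (n := 1)
      (by rw [pow_one, Nat.card_congr (Subgroup.subgroupOfEquivOfLe hZ).toEquiv, hZc])
    obtain ⟨P, hP⟩ := hp.exists_le_sylow
    refine ⟨P, (Subgroup.eq_of_le_of_card_ge hP ?_).symm⟩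
    rw [Nat.card_congr (Subgroup.subgroupOfEquivOfLe hZ).toEquiv, hZc]
    obtain ⟨n, hn⟩ := IsPGroup.iff_card.1 P.2
    rw [hn]
    calc q ^ n ≤ q ^ 1 := Nat.pow_le_pow_right hq.pos
          (hqsq n (hn ▸ (Subgroup.card_subgroup_dvd_card (P : Subgroup B)).trans
            (Subgroup.card_subgroup_dvd_card B)))
      _ = q := pow_one q
  obtain ⟨P₁, hP₁⟩ := hqZ _ hZB (by rw [Nat.card_zpowers, hxmo])
  obtain ⟨P₂, hP₂⟩ := hqZ _ hZZ (by
    rw [Subgroup.card_map_of_injective (MulAut.conj sm).injective, Nat.card_zpowers, hxmo])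
  obtain ⟨b, hb⟩ := MulAction.exists_smul_eq B P₁ P₂
  have hb' : (Subgroup.zpowers xm).map (MulAut.conj (b : M)).toMonoidHom =
      (Subgroup.zpowers xm).map (MulAut.conj sm).toMonoidHom := by
    have h := congrArg (fun P : Sylow q B => (P : Subgroup B).map B.subtype) hb
    simp only [Sylow.coe_subgroup_smul, hP₁, hP₂, Subgroup.map_subgroupOf_eq_of_le hZZ] at h
    rw [← h]
    ext y
    constructor
    · rintro ⟨z, hz, rfl⟩
      exact ⟨b * ⟨z, hZB hz⟩ * b⁻¹, ⟨⟨z, hZB hz⟩, hz, rfl⟩, rfl⟩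
    · rintro ⟨_, ⟨z, hz, rfl⟩, rfl⟩
      exact ⟨(z : M), hz, rfl⟩
  set u : M := (b : M)⁻¹ * sm with hu
  have huN : u * xm * u⁻¹ ∈ Subgroup.zpowers xm := by
    have h1 : sm * xm * sm⁻¹ ∈ (Subgroup.zpowers xm).map (MulAut.conj (b : M)).toMonoidHom :=
      hb' ▸ ⟨xm, Subgroup.mem_zpowers _, rfl⟩
    obtain ⟨z, hz, hz'⟩ := h1
    simp only [MulEquiv.coe_toMonoidHom, MulAut.conj_apply] at hz'
    rw [hu, show (b : M)⁻¹ * sm * xm * ((b : M)⁻¹ * sm)⁻¹ = (b : M)⁻¹ * (sm * xm * sm⁻¹) * b by group,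
      ← hz']
    rw [show (b : M)⁻¹ * ((b : M) * z * (b : M)⁻¹) * b = z by group]
    exact hz
  -- `u` has even order
  have hue : 2 ∣ orderOf u := by
    have h1 : φ u = (φ (b : M))⁻¹ * φ sm := by rw [hu, map_mul, map_inv]
    have h2 : φ (b : M) = 1 := by
      obtain ⟨j, hj⟩ := Subgroup.mem_zpowers_iff.1 (show π (b : M) ∈ Subgroup.zpowers _ from b.2)
      refine MulEquiv.ext fun n => Subtype.ext ?_
      simp only [φ, MonoidHom.comp_apply, MulAut.conjNormal_apply, MulAut.one_apply, ← hj]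
      obtain ⟨i, hi⟩ := Subgroup.mem_zpowers_iff.1 (hNz _ n.2)
      rw [← hi, ← zpow_add, ← zpow_neg, ← zpow_add]
      congr 1
      ring
    rw [h2, inv_one, one_mul] at h1
    exact (dvd_pow_self 2 (show k ≠ 0 by omega)).trans (hso ▸ h1 ▸ orderOf_map_dvd φ u)
  obtain ⟨n, hn⟩ := hue
  refine ⟨((u ^ n : M) : G), (u ^ n).2, fun hmem => ?_, ?_⟩
  · -- an element of the core normalising `⟨x⟩` is trivial
    have hmem' : (xm : G) * ((u ^ n : M) : G) = ((u ^ n : M) : G) * (xm : G) := by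
      set e := u ^ n
      have he : e ∈ pCore 2 M := (QuotientGroup.eq_one_iff e).1 ((hπD e).2 hmem)
      have hz : e * xm * e⁻¹ * xm⁻¹ ∈ Subgroup.zpowers xm := by
        refine mul_mem ?_ (inv_mem (Subgroup.mem_zpowers _))
        have hzn : Subgroup.map (MulAut.conj u).toMonoidHom (Subgroup.zpowers xm) ≤ Subgroup.zpowers xm := by
          rw [MonoidHom.map_zpowers, Subgroup.zpowers_le]; exact huN
        have : ∀ j : ℕ, u ^ j * xm * (u ^ j)⁻¹ ∈ Subgroup.zpowers xm := by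
          intro j
          induction j with
          | zero => simp
          | succ j ih =>
            have := hzn ⟨_, ih, rfl⟩
            simpa [pow_succ', mul_assoc] using this
        exact this n
      have hd : e * xm * e⁻¹ * xm⁻¹ ∈ pCore 2 M := by
        rw [mul_assoc, mul_assoc]
        exact mul_mem he (by
          have := (inferInstance : (pCore 2 M).Normal).conj_mem _ (inv_mem he) xm
          simpa [mul_assoc] using this)
      have h1 : e * xm * e⁻¹ * xm⁻¹ = 1 := by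
        by_contra hne
        have h2 := (Cores.isPGroup_pCore 2 M).to_subgroup
        obtain ⟨i, hi⟩ := (IsPGroup.iff_orderOf.1 (Cores.isPGroup_pCore 2 M)) ⟨_, hd⟩
        rw [Subgroup.orderOf_mk] at hi
        have h3 := orderOf_dvd_of_mem_zpowers hz
        rw [hxmo] at h3
        rcases (Nat.dvd_prime hq).1 h3 with h4 | h4
        · exact hne (orderOf_eq_one_iff.1 h4)
        · exact hq2 ((Nat.prime_dvd_prime_iff_eq hq Nat.prime_two).1
            (hq.dvd_of_dvd_pow (dvd_of_eq (h4.symm.trans hi))))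
      rw [mul_inv_eq_one, mul_inv_eq_iff_eq_mul] at h1
      exact congrArg Subtype.val h1.symm
    have he1 := hfpf (xm : G) (by rw [hxo]) _ hmem hmem'.symm
    have h5 : orderOf (u ^ n) = 2 := by
      rw [orderOf_pow_of_dvd (by rintro rfl; exact (orderOf_pos u).ne' (by simpa using hn))
        (hn ▸ dvd_mul_left n 2), hn, Nat.mul_div_cancel _ (by
          rcases n.eq_zero_or_pos with rfl | hp
          · exact absurd (by simpa using hn) (orderOf_pos u).ne'
          · exact hp)]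
    rw [OneMemClass.coe_eq_one.1 he1, orderOf_one] at h5
    omega
  · rw [Subgroup.orderOf_coe, orderOf_pow_of_dvd (by rintro rfl; exact (orderOf_pos u).ne' (by simpa using hn))
      (hn ▸ dvd_mul_left n 2), hn, Nat.mul_div_cancel _ (by
        rcases n.eq_zero_or_pos with rfl | hp
        · exact absurd (by simpa using hn) (orderOf_pos u).ne'
        · exact hp)]

end CfsgLib.PrimeElementOrders
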